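import Cfsg.Agent.Lib.Spor.Triality.Basic

/-! Products of commuting members of another coset act on a coset without commuting with any member. -/

set_option autoImplicit false
set_option linter.style.haveILetI false
set_option linter.unusedSectionVars false

namespace Cfsg.Agent.Spor.Triality

open Cfsg Cfsg.Agent.Spor

universe u

/-- An involution commuting with no member, each member commuting with its image. -/
def Sw {X : Type*} [Group X] (E : Set X) (x : X) : Prop :=
  x * x = 1 ∧ ∀ e ∈ E, ¬ Commute e x ∧ Commute e (x * e * x)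

/-- The ordered commuting pairs. -/
def pairs {X : Type*} [Group X] (E : Set X) : Set (X × X) :=
  {p | p.1 ∈ E ∧ p.2 ∈ E ∧ p.1 ≠ p.2 ∧ Commute p.1 p.2}

/-- A product of two commuting members determines them. -/
def UniqueFactor {X : Type*} [Group X] (E : Set X) : Prop :=
  ∀ a ∈ E, ∀ b ∈ E, ∀ c ∈ E, ∀ d ∈ E, a ≠ b → Commute a b → c ≠ d → Commute c d →
    a * b = c * d → c = a ∨ c = b

theorem Sw.swaps {X : Type*} [Group X] {E : Set X} {x a b : X} (h : Sw E x) (e : x * a * x = b) :
    x * b * x = a := by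
  subst e
  rw [show x * (x * a * x) * x = (x * x) * a * (x * x) by group, h.1, one_mul, mul_one]

variable {G : Type u} [Group G] [Finite G] {D : Set G} {L : Subgroup G}

theorem Cfg.pair_sw (C : Cfg D L) {u e e' : G} (hu : u ∈ D) (he : e ∈ D) (he' : e' ∈ D)
    (hne : e ≠ e') (hc : Commute e e') (hout : u * e ∉ L) :
    ¬ Commute u (e * e') ∧ Commute u (e * e' * u * (e * e')) := by
  have h3 := C.cls.1
  have hout' : u * e' ∉ L := fun k => hout (C.trans he' k (C.swap he he' (C.width e he e' he' hc)))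
  have be := ThreeTrans.braid h3 hu he (C.apart hu he hout)
  have be' := ThreeTrans.braid h3 hu he' (C.apart hu he' hout')
  constructor
  · intro k
    refine hne ?_
    have h1 : e' * u * e' = e * u * e := by
      have h := congrArg (fun t => e * t * e') k.eq.symm
      simp only [mul_assoc, C.cancel he, C.sq he', mul_one] at h
      simpa only [mul_assoc] using h
    rw [← be', ← be] at h1
    exact (mul_left_cancel (mul_right_cancel h1)).symm
  · have e1 : e * e' * u * (e * e') = e * u * e' * u * e := by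
      rw [hc.eq, show e' * e * u * (e' * e) = e * (e' * u * e') * e by
        rw [← hc.eq]; simp only [mul_assoc]; rw [hc.eq], ← be']
      simp only [mul_assoc]
    rw [e1]
    show u * (e * u * e' * u * e) = e * u * e' * u * e * u
    calc u * (e * u * e' * u * e) = (u * e * u) * e' * u * e := by simp only [mul_assoc]
      _ = e * u * (e * e') * u * e := by rw [be]; simp only [mul_assoc]
      _ = e * u * (e' * e) * u * e := by rw [hc.eq]
      _ = e * u * e' * (e * u * e) := by simp only [mul_assoc]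
      _ = e * u * e' * u * e * u := by rw [← be]; simp only [mul_assoc]

theorem Cfg.prod_sq (C : Cfg D L) {e e' : G} (he : e ∈ D) (he' : e' ∈ D) (hc : Commute e e') :
    (e * e') * (e * e') = 1 := by
  calc e * e' * (e * e') = e * (e' * e) * e' := by simp only [mul_assoc]
    _ = 1 := by rw [← hc.eq, ← mul_assoc e, C.sq he, one_mul, C.sq he']

/-- A commuting pair of one coset moved to a pair of another coset. -/
theorem Cfg.transfer (C : Cfg D L) {d d' e : G} (hd : d ∈ D) (hd' : d' ∈ D) (hne : d ≠ d')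
    (hc : Commute d d') (he : e ∈ D) (hout : d * e ∉ L) :
    d * d' * e * (d * d') ∈ D ∧ e ≠ d * d' * e * (d * d') ∧ Commute e (d * d' * e * (d * d')) ∧
      e * (d * d' * e * (d * d')) * d * (e * (d * d' * e * (d * d'))) = d' := by
  haveI := C.nrm
  have hz2 := C.prod_sq hd hd' hc
  have hzi : (d * d')⁻¹ = d * d' := inv_eq_of_mul_eq_one_right hz2
  have hD' : d * d' * e * (d * d') ∈ D := by
    have := FischerStr.conj_mem C.cls (d * d') he
    rwa [hzi] at this
  obtain ⟨h1, h2⟩ := C.pair_sw he hd hd' hne hc fun k => hout (C.swap he hd k)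
  refine ⟨hD', fun k => h1 ?_, h2, ?_⟩
  · show e * (d * d') = d * d' * e
    conv_lhs => rw [k]
    rw [mul_assoc (d * d' * e), hz2, mul_one]
  · set e' := d * d' * e * (d * d') with he'
    have hout' : d' * e ∉ L := fun k => hout (C.trans hd' (C.width d hd d' hd' hc) k)
    have be : d * e * d = e * d * e := ThreeTrans.braid C.cls.1 hd he (C.apart hd he hout)
    have be' : d' * e * d' = e * d' * e := ThreeTrans.braid C.cls.1 hd' he (C.apart hd' he hout')
    have hd2 : e' * d * e' = d * e' * d := (ThreeTrans.braid C.cls.1 hd hD' fun k => by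
      refine C.apart hd hD' (fun m => hout ?_) k
      have hzL : d * d' ∈ L := C.width d hd d' hd' hc
      have hee : e' * e ∈ L := by
        rw [he', show d * d' * e * (d * d') * e = (d * d') * (e * (d * d') * e⁻¹) by
          rw [C.inv he]; simp only [mul_assoc]]
        exact mul_mem hzL (C.nrm.conj_mem _ hzL e)
      exact C.trans hD' m hee).symm
    have hd3 : d * e' * d = d' * e * d' := by
      rw [he']
      calc d * (d * d' * e * (d * d')) * d = d * d * d' * e * (d * d' * d) := by simp only [mul_assoc]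
        _ = d' * e * d' := by
          rw [C.sq hd, one_mul, hc.eq, mul_assoc d' d d, C.sq hd, mul_one]
    calc e * e' * d * (e * e') = e * e' * d * (e' * e) := by rw [h2.eq]
      _ = e * (e' * d * e') * e := by simp only [mul_assoc]
      _ = e * (e * d' * e) * e := by rw [hd2, hd3, be']
      _ = d' := by simp only [mul_assoc, C.cancel he, C.sq he, mul_one]

theorem mul_two_le {α β : Type*} [Finite α] (S : Set α) (f : α → β) (T : Set β) (hT : T ⊆ f '' S)
    (h2 : ∀ b ∈ T, ∃ x ∈ S, ∃ y ∈ S, x ≠ y ∧ f x = b ∧ f y = b) : 2 * T.ncard ≤ S.ncard := by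
  classical
  haveI := Fintype.ofFinite α
  have hTf : T.Finite := (S.toFinite.image f).subset hT
  rw [Set.ncard_eq_toFinset_card T hTf, Set.ncard_eq_toFinset_card' S]
  have h := Finset.sum_le_sum (s := hTf.toFinset) (f := fun _ => 2)
    (g := fun b => (S.toFinset.filter fun a => f a = b).card) fun b hb => by
      obtain ⟨x, hx, y, hy, hne, ex, ey⟩ := h2 b (hTf.mem_toFinset.mp hb)
      exact Finset.one_lt_card.mpr ⟨x, by simp [hx, ex], y, by simp [hy, ey], hne⟩
  rw [Finset.sum_const, smul_eq_mul, mul_comm] at h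
  refine h.trans ?_
  rw [← Finset.card_biUnion fun a _ b _ hab => Finset.disjoint_filter.mpr fun x _ e1 e2 => hab (e1.symm.trans e2)]
  exact Finset.card_le_card fun x hx => by
    obtain ⟨b, -, hb⟩ := Finset.mem_biUnion.mp hx
    exact (Finset.mem_filter.mp hb).1

theorem le_mul_two {α β : Type*} [Finite α] [Finite β] (S : Set α) (f : α → β) (T : Set β)
    (hT : ∀ x ∈ S, f x ∈ T) (h2 : ∀ x ∈ S, ∃ y, ∀ z ∈ S, f z = f x → z = x ∨ z = y) :
    S.ncard ≤ 2 * T.ncard := by
  classical
  haveI := Fintype.ofFinite α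
  haveI := Fintype.ofFinite β
  rw [Set.ncard_eq_toFinset_card' S, Set.ncard_eq_toFinset_card' T]
  refine Finset.card_le_mul_card_image_of_maps_to (f := f) (fun a ha => by simpa using hT a (by simpa using ha))
    2 fun b hb => ?_
  by_cases hx : ∃ x ∈ S, f x = b
  · obtain ⟨x, hx, rfl⟩ := hx
    obtain ⟨y, hy⟩ := h2 x hx
    refine le_trans (Finset.card_le_card (t := {x, y}) fun z hz => ?_) Finset.card_le_two
    simp only [Finset.mem_filter, Set.mem_toFinset] at hz
    simpa using hy z hz.1 hz.2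
  · rw [Finset.card_eq_zero.mpr (Finset.filter_eq_empty_iff.mpr fun a ha e => hx ⟨a, by simpa using ha, e⟩)]
    norm_num

/-- Products of commuting pairs. -/
def prods {X : Type*} [Group X] (E : Set X) : Set X := (fun p : X × X => p.1 * p.2) '' pairs E

theorem prods_le {X : Type*} [Group X] [Finite X] (E : Set X) :
    2 * (prods E).ncard ≤ (pairs E).ncard := by
  refine mul_two_le _ _ _ (le_refl _) ?_
  rintro _ ⟨p, hp, rfl⟩
  exact ⟨p, hp, p.swap, ⟨hp.2.1, hp.1, hp.2.2.1.symm, hp.2.2.2.symm⟩,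
    fun e => hp.2.2.1 (congrArg Prod.fst e), rfl, hp.2.2.2.symm.eq⟩

theorem pairs_image {X Y : Type*} [Group X] [Group Y] (f : X →* Y) (hf : Function.Injective f) (E : Set X) :
    pairs (f '' E) = Prod.map f f '' pairs E := by
  ext ⟨a, b⟩
  constructor
  · rintro ⟨⟨x, hx, rfl⟩, ⟨y, hy, rfl⟩, hne, hc⟩
    exact ⟨(x, y), ⟨hx, hy, fun e => hne (congrArg f e), hf (by rw [map_mul, map_mul]; exact hc)⟩, rfl⟩
  · rintro ⟨⟨x, y⟩, ⟨hx, hy, hne, hc⟩, e⟩
    obtain ⟨rfl, rfl⟩ := Prod.mk.inj e
    exact ⟨⟨x, hx, rfl⟩, ⟨y, hy, rfl⟩, fun e => hne (hf e), hc.map f⟩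

/-- A model of one coset. -/
structure Emb (D : Set G) (L : Subgroup G) (d : G) {X : Type*} [Group X] (E : Set X) (f : X →* G) : Prop where
  inj : Function.Injective f
  img : f '' E = cl D L d
  rng : f.range = grp D L d

theorem emb_of_equiv {d : G} {X : Type*} [Group X] {E : Set X} (e : ↥(grp D L d) ≃* X)
    (he : e '' clG D L d = E) : Emb D L d E ((grp D L d).subtype.comp e.symm.toMonoidHom) := by
  refine ⟨(grp D L d).subtype_injective.comp e.symm.injective, ?_, ?_⟩
  · ext x
    constructor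
    · rintro ⟨y, hy, rfl⟩
      rw [← he] at hy
      obtain ⟨g, hg, rfl⟩ := hy
      rw [MonoidHom.comp_apply, MulEquiv.coe_toMonoidHom, MulEquiv.symm_apply_apply]
      exact hg
    · intro hx
      refine ⟨e ⟨x, Subgroup.subset_closure hx⟩, he ▸ ⟨_, hx, rfl⟩, ?_⟩
      simp
  · rw [MonoidHom.range_comp, MonoidHom.range_eq_top.mpr e.symm.surjective, ← MonoidHom.range_eq_map,
      Subgroup.range_subtype]

variable (C : Cfg D L) {d : G} (hd : d ∈ D) {X : Type*} [Group X] {E : Set X} {f : X →* G}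
  (M : Emb D L d E f)
include C hd M

theorem Emb.at {e : G} (he : e ∈ D) :
    ∃ h : X →* G, Function.Injective h ∧ h '' E = cl D L e := by
  obtain ⟨g, rfl⟩ := FischerStr.exists_conj C.cls hd he
  exact ⟨(MulAut.conj g).toMonoidHom.comp f, (MulAut.conj g).injective.comp M.inj, by
    rw [C.cl_conj, ← M.img, Set.image_image]
    rfl⟩

theorem Emb.finite : Finite X := Finite.of_injective f M.inj

theorem Emb.mem_D {x : X} (hx : x ∈ E) : f x ∈ cl D L d := M.img ▸ ⟨x, hx, rfl⟩

theorem Emb.nonempty : E.Nonempty := by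
  have h : d ∈ f '' E := M.img ▸ C.self_cl hd
  exact h.imp' id fun _ => And.left

theorem Emb.sw_of {e e' : G} (he : e ∈ D) (he' : e' ∈ D) (hne : e ≠ e') (hc : Commute e e')
    (hout : d * e ∉ L) : ∃ x, f x = e * e' ∧ Sw E x := by
  obtain ⟨x, hx⟩ : e * e' ∈ f.range := M.rng ▸ C.L_le_grp hd (C.width e he e' he' hc)
  refine ⟨x, hx, M.inj (by rw [map_mul, hx, map_one, C.prod_sq he he' hc]), fun a ha => ?_⟩
  have hm := M.mem_D C hd ha
  obtain ⟨h1, h2⟩ := C.pair_sw hm.1 he he' hne hc (C.out_cl hd hm hout)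
  exact ⟨fun k => h1 (hx ▸ k.map f), M.inj (by simp only [map_mul, hx]; exact h2)⟩

theorem Emb.pairs_card {e : G} (he : e ∈ D) : (pairs (cl D L e)).ncard = (pairs E).ncard := by
  obtain ⟨h, hi, e'⟩ := M.at C hd he
  rw [← e', pairs_image h hi, Set.ncard_image_of_injective _ (hi.prodMap hi)]

theorem Emb.prods_card {e : G} (he : e ∈ D) : 2 * (prods (cl D L e)).ncard ≤ (pairs E).ncard :=
  (prods_le _).trans (M.pairs_card C hd he).le

/-- Some switch has a small class. -/
theorem Emb.orbit : ∃ x, Sw E x ∧ (conjugatesOf x).ncard ≤ (pairs E).ncard := by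
  obtain ⟨e, he, hde⟩ := C.many d hd
  obtain ⟨a, ha, b, hb, hab, hc⟩ := C.pair
  obtain ⟨g, hg⟩ := FischerStr.exists_conj C.cls ha he
  have hb' : g * b * g⁻¹ ∈ D := FischerStr.conj_mem C.cls g hb
  have hc' : Commute e (g * b * g⁻¹) := by rw [← hg]; simpa [MulAut.conj_apply] using hc.map (MulAut.conj g)
  have hne : e ≠ g * b * g⁻¹ := fun k => hab (by rw [← hg] at k; exact mul_left_cancel (mul_right_cancel k))
  set e' := g * b * g⁻¹
  obtain ⟨x, hx, hsw⟩ := M.sw_of C hd he hb' hne hc' hde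
  refine ⟨x, hsw, ?_⟩
  have hsub : f '' conjugatesOf x ⊆ prods (cl D L e) ∪ prods (cl D L (d * e * d⁻¹)) := by
    rintro _ ⟨z, hz, rfl⟩
    obtain ⟨t, rfl⟩ := isConj_iff.mp hz
    rw [map_mul, map_mul, map_inv, hx]
    set s := f t with hs
    have hsg : s ∈ grp D L d := M.rng ▸ ⟨t, rfl⟩
    have hp : (s * e * s⁻¹, s * e' * s⁻¹) ∈ pairs (cl D L (s * e * s⁻¹)) := by
      refine ⟨C.self_cl (FischerStr.conj_mem C.cls s he), ⟨FischerStr.conj_mem C.cls s hb', C.width _
        (FischerStr.conj_mem C.cls s he) _ (FischerStr.conj_mem C.cls s hb') ?_⟩,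
        fun k => hne (mul_left_cancel (mul_right_cancel k)), ?_⟩ <;>
        simpa [MulAut.conj_apply] using hc'.map (MulAut.conj s)
    have hmem : s * (e * e') * s⁻¹ ∈ prods (cl D L (s * e * s⁻¹)) := ⟨_, hp, by
      show s * e * s⁻¹ * (s * e' * s⁻¹) = _
      group⟩
    haveI := C.nrm
    have same : ∀ a ∈ D, ∀ c ∈ D, c * a ∈ L → cl D L a = cl D L c := fun a ha c hc h => Set.ext fun w =>
      ⟨fun hw => ⟨hw.1, C.trans ha h hw.2⟩, fun hw => ⟨hw.1, C.trans hc (C.swap hc ha h) hw.2⟩⟩
    rcases C.mem_grp hd hsg with k | k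
    · left
      rwa [same _ (FischerStr.conj_mem C.cls s he) e he (FischerStr.mul_conj_mem C.cls.1 L he k)] at hmem
    · right
      have hf : d * e * d⁻¹ ∈ D := FischerStr.conj_mem C.cls d he
      rwa [same _ (FischerStr.conj_mem C.cls s he) _ hf (by
        rw [show s * e * s⁻¹ = (s * d) * (d⁻¹ * e * d) * (s * d)⁻¹ by group, C.inv hd]
        exact FischerStr.mul_conj_mem C.cls.1 L (by rwa [C.inv hd] at hf) k)] at hmem
  have h1 := (Set.ncard_le_ncard hsub (Set.toFinite _)).trans (Set.ncard_union_le _ _)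
  rw [Set.ncard_image_of_injective _ M.inj] at h1
  have h2 := M.prods_card C hd he
  have h3 := M.prods_card C hd (FischerStr.conj_mem C.cls d he)
  omega

/-- A clique of another coset gives commuting switches with switches as products. -/
theorem Emb.clique {k : ℕ} {t : Fin (k + 1) → X} (ht : ∀ i, t i ∈ E) (hi : Function.Injective t)
    (hc : ∀ i j, Commute (t i) (t j)) :
    ∃ y : Fin k → X, (∀ i, Sw E (y i)) ∧ (∀ i j, Commute (y i) (y j)) ∧ ∀ i j, i ≠ j → Sw E (y i * y j) := by
  obtain ⟨e, he, hde⟩ := C.many d hd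
  obtain ⟨h, hhi, hh⟩ := M.at C hd he
  have hm : ∀ i, h (t i) ∈ cl D L e := fun i => hh ▸ ⟨t i, ht i, rfl⟩
  have hout : ∀ i, d * h (t i) ∉ L := fun i k => hde (C.trans (hm i).1 k (C.swap he (hm i).1 (hm i).2))
  have hne : ∀ i j, i ≠ j → h (t i) ≠ h (t j) := fun i j k e => k (hi (hhi e))
  choose y hy hys using fun i : Fin k =>
    M.sw_of C hd (hm 0).1 (hm i.succ).1 (hne _ _ (Fin.succ_ne_zero i).symm) ((hc 0 i.succ).map h) (hout 0)
  have cm : ∀ i j, Commute (h (t i)) (h (t j)) := fun i j => (hc i j).map h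
  refine ⟨y, hys, fun i j => M.inj ?_, fun i j hij => ?_⟩
  · rw [map_mul, map_mul, hy, hy]
    exact ((cm _ _).mul_left (cm _ _)).mul_right ((cm _ _).mul_left (cm _ _))
  · obtain ⟨x, hx, hxs⟩ := M.sw_of C hd (hm i.succ).1 (hm j.succ).1
      (hne _ _ fun e => hij (Fin.succ_injective k e)) (cm _ _) (hout i.succ)
    have : y i * y j = x := M.inj (by
      rw [map_mul, hy, hy, hx, (cm 0 i.succ).eq]
      simp only [mul_assoc, C.cancel (hm 0).1])
    exact this ▸ hxs

/-- Few switches exchange two commuting members unless there are three cosets only. -/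
theorem Emb.count (hU : UniqueFactor E) {a b : X} (ha : a ∈ E) (hb : b ∈ E) (hab : a ≠ b) (hc : Commute a b) :
    (D \ cl D L d).ncard ≤ 2 * {x | Sw E x ∧ x * a * x = b}.ncard := by
  classical
  haveI := M.finite C hd
  have hA := M.mem_D C hd ha
  have hB := M.mem_D C hd hb
  have hne : f a ≠ f b := fun e => hab (M.inj e)
  have hcf : Commute (f a) (f b) := hc.map f
  let p : G → G := fun e => f a * f b * e * (f a * f b)
  have hp : ∀ e ∈ D \ cl D L d, p e ∈ D ∧ e ≠ p e ∧ Commute e (p e) ∧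
      e * p e * f a * (e * p e) = f b ∧ d * e ∉ L := fun e he => by
    have hde : d * e ∉ L := fun k => he.2 ⟨he.1, k⟩
    obtain ⟨h1, h2, h3, h4⟩ := C.transfer hA.1 hB.1 hne hcf he.1 (C.out_cl hd hA hde)
    exact ⟨h1, h2, h3, h4, hde⟩
  have hx : ∀ e ∈ D \ cl D L d, ∃ x, f x = e * p e ∧ Sw E x ∧ x * a * x = b := fun e he => by
    obtain ⟨h1, h2, h3, h4, h5⟩ := hp e he
    obtain ⟨x, hx, hs⟩ := M.sw_of C hd he.1 h1 h2 h3 h5
    exact ⟨x, hx, hs, M.inj (by simp only [map_mul, hx]; exact h4)⟩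
  let F : G → X := fun e => if he : e ∈ D \ cl D L d then (hx e he).choose else 1
  have hF : ∀ e (he : e ∈ D \ cl D L d), f (F e) = e * p e ∧ Sw E (F e) ∧ F e * a * F e = b := fun e he => by
    simp only [F, dif_pos he]; exact (hx e he).choose_spec
  refine le_mul_two _ F _ (fun e he => ⟨(hF e he).2.1, (hF e he).2.2⟩) fun e he => ⟨p e, fun h hh heq => ?_⟩
  obtain ⟨e1, e2, e3, -, -⟩ := hp e he
  obtain ⟨h1, h2, h3, -, -⟩ := hp h hh
  have hy : e * p e = h * p h := by rw [← (hF e he).1, ← (hF h hh).1, heq]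
  have hin : ∀ w ∈ D, Commute w (e * p e) → e * w ∈ L := fun w hw k => by
    by_contra hout
    exact (C.pair_sw hw he.1 e1 e2 e3 fun m => hout (C.swap hw he.1 m)).1 k
  have hhe : e * h ∈ L := hin h hh.1 (by rw [hy]; exact (Commute.refl h).mul_right h3)
  have hph : e * p h ∈ L := hin (p h) h1 (by rw [hy]; exact h3.symm.mul_right (Commute.refl _))
  obtain ⟨k, hki, hk⟩ := M.at C hd he.1
  have back : ∀ w ∈ D, e * w ∈ L → ∃ u ∈ E, k u = w := fun w hw m => by
    have : w ∈ k '' E := hk.symm ▸ (show w ∈ cl D L e from ⟨hw, m⟩)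
    exact this
  obtain ⟨u1, hu1, eu1⟩ := back e he.1 (C.self_cl he.1).2
  obtain ⟨u2, hu2, eu2⟩ := back (p e) e1 (C.width e he.1 _ e1 e3)
  obtain ⟨u3, hu3, eu3⟩ := back h hh.1 hhe
  obtain ⟨u4, hu4, eu4⟩ := back (p h) h1 hph
  have cm : ∀ {s t : X}, Commute (k s) (k t) → Commute s t := fun h => hki (by rw [map_mul, map_mul]; exact h)
  rcases hU u1 hu1 u2 hu2 u3 hu3 u4 hu4 (fun r => e2 (eu1.symm.trans ((congrArg k r).trans eu2)))
      (cm (by rw [eu1, eu2]; exact e3)) (fun r => h2 (eu3.symm.trans ((congrArg k r).trans eu4)))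
      (cm (by rw [eu3, eu4]; exact h3)) (hki (by rw [map_mul, map_mul, eu1, eu2, eu3, eu4]; exact hy)) with r | r
  · exact Or.inl (by rw [← eu3, r, eu1])
  · exact Or.inr (by rw [← eu3, r, eu2])

/-- Three cosets or at least nine. -/
theorem Emb.cosets :
    (∀ [L.Normal], Nonempty (G ⧸ L ≃* Equiv.Perm (Fin 3))) ∨ 9 * E.ncard ≤ D.ncard := by
  classical
  haveI := C.nrm
  haveI := Fintype.ofFinite G
  haveI : Fact (Nat.Prime 3) := ⟨Nat.prime_three⟩
  let π := QuotientGroup.mk' L
  have hπ : ∀ g, π g = 1 ↔ g ∈ L := fun g => QuotientGroup.eq_one_iff g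
  set S : Set (G ⧸ L) := π '' D with hS
  have hset : IsThreeTranspositionSet S := by
    refine ⟨?_, ?_⟩
    · rintro _ ⟨x, hx, rfl⟩
      exact orderOf_eq_prime (by rw [← map_pow, pow_two, C.sq hx, map_one]) fun k => C.out x hx ((hπ x).mp k)
    · rintro _ ⟨x, hx, rfl⟩ _ ⟨y, hy, rfl⟩
      exact (C.cls.1.2 x hx y hy).imp (fun e => by rw [← map_mul, ← map_pow, e, map_one])
        fun e => by rw [← map_mul, ← map_pow, e, map_one]
  have hmk : ∀ {x y : G}, x ∈ D → y ∈ D → (π x = π y ↔ x * y ∈ L) := fun {x y} hx hy => by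
    rw [show π x = π y ↔ x⁻¹ * y ∈ L from QuotientGroup.eq, C.inv hx]
  have hnc : ∀ a ∈ S, ∀ b ∈ S, a ≠ b → ¬ Commute a b := by
    rintro _ ⟨x, hx, rfl⟩ _ ⟨y, hy, rfl⟩ hne hcom
    have := FischerStr.width_one C.cls C.qs hx hy ((hπ _).mp (by
      simp only [map_mul, map_inv]
      rw [hcom.eq, mul_inv_cancel_right, mul_inv_cancel]))
    rw [C.inv hx] at this
    exact hne ((hmk hx hy).mpr this)
  have hconj : ∀ q : G ⧸ L, ∀ x ∈ S, q * x * q⁻¹ ∈ S := by
    rintro q _ ⟨x, hx, rfl⟩
    obtain ⟨g, rfl⟩ := QuotientGroup.mk'_surjective L q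
    exact ⟨g * x * g⁻¹, FischerStr.conj_mem C.cls g hx, by simp [π]⟩
  have hcube : ∀ x ∈ S, ∀ y ∈ S, (x * y) ^ 3 = 1 := fun x hx y hy => by
    by_cases e : x = y
    · rw [e, ThreeTrans.mul_self hset hy, one_pow]
    · exact (hset.2 x hx y hy).resolve_left fun k => hnc x hx y hy e (FischerStr.commute_of_sq hset hx hy k)
  have haS : π d ∈ S := ⟨d, hd, rfl⟩
  obtain ⟨e, he, hde⟩ := C.many d hd
  have hbS : π e ∈ S := ⟨e, he, rfl⟩
  have hne : π d ≠ π e := fun k => hde ((hmk hd he).mp k)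
  have hgen : Subgroup.closure S = ⊤ := by
    rw [hS, ← MonoidHom.map_closure, C.cls.2.2, Subgroup.map_top_of_surjective _ (QuotientGroup.mk'_surjective L)]
  -- a power of three
  set P := pCore 3 (G ⧸ L)
  letI : MulAction ↥P (G ⧸ L) := MulAction.compHom _ ((MulAut.conj).comp P.subtype)
  have horb : MulAction.orbit ↥P (π d) = S := by
    refine Set.Subset.antisymm ?_ fun y hy => ?_
    · rintro _ ⟨p, rfl⟩
      exact hconj p _ haS
    · refine ⟨⟨π d * y, FourGen.mul_mem_pCore S (fun x hx => ThreeTrans.mul_self hset hx) hconj hcube haS hy⟩, ?_⟩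
      show π d * y * π d * (π d * y)⁻¹ = y
      by_cases k : π d = y
      · rw [← k]; group
      rw [mul_inv_rev, ThreeTrans.inv_eq hset hy, ThreeTrans.inv_eq hset haS,
        ThreeTrans.braid hset haS hy (hnc _ haS y hy k)]
      simp only [mul_assoc, ThreeTrans.mul_self_mul hset hy, ThreeTrans.mul_self hset haS, mul_one]
  obtain ⟨j, hj⟩ := (Transfer.pCore_isPGroup 3 (G ⧸ L) : IsPGroup 3 ↥P).card_orbit (π d)
  rw [horb, Nat.card_coe_set_eq] at hj
  have hthree : π d * π e * π d ∈ S := by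
    have := hconj (π d) _ hbS
    rwa [ThreeTrans.inv_eq hset haS] at this
  have n1 : π d * π e * π d ≠ π d := fun k => hne (by
    have k' : π d * π e = 1 := mul_eq_right.mp k
    rw [eq_inv_of_mul_eq_one_left k', ThreeTrans.inv_eq hset hbS])
  have n2 : π d * π e * π d ≠ π e := fun k => hnc _ haS _ hbS hne (by
    show π d * π e = π e * π d
    have k' : π d * π e * π d * π d = π e * π d := by rw [k]
    rwa [mul_assoc (π d * π e), ThreeTrans.mul_self hset haS, mul_one] at k')
  have h3le : 3 ≤ S.ncard := by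
    rw [← Set.ncard_eq_three.mpr ⟨π d, π e, π d * π e * π d, hne, n1.symm, n2.symm, rfl⟩]
    exact Set.ncard_le_ncard (by simp [Set.insert_subset_iff, haS, hbS, hthree]) (Set.toFinite _)
  by_cases h3 : S.ncard = 3
  · left
    intro _
    have hSeq : ({π d, π e, π d * π e * π d} : Set (G ⧸ L)) = S := Set.eq_of_subset_of_ncard_le
      (by simp [Set.insert_subset_iff, haS, hbS, hthree])
      (by rw [h3, Set.ncard_eq_three.mpr ⟨π d, π e, π d * π e * π d, hne, n1.symm, n2.symm, rfl⟩]) (Set.toFinite _)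
    have htop : Subgroup.closure ({π d, π e} : Set (G ⧸ L)) = ⊤ := by
      rw [eq_top_iff, ← hgen, ← hSeq, Subgroup.closure_le]
      have hd' : π d ∈ Subgroup.closure ({π d, π e} : Set (G ⧸ L)) := Subgroup.subset_closure (by simp)
      have he' : π e ∈ Subgroup.closure ({π d, π e} : Set (G ⧸ L)) := Subgroup.subset_closure (by simp)
      simp [Set.insert_subset_iff, hd', he', mul_mem (mul_mem hd' he') hd']
    obtain ⟨φ, hinj, e0, e1⟩ := ThreeTrans.exists_hom_s3 hset haS hbS (hnc _ haS _ hbS hne)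
    exact ⟨(Subgroup.topEquiv.symm.trans ((MulEquiv.subgroupCongr htop).symm.trans
      (MulEquiv.subgroupCongr (ThreeTrans.closure_pair_eq_range φ e0 e1).symm))).trans (MonoidHom.ofInjective hinj).symm⟩
  · right
    have h9 : 9 ≤ S.ncard := by
      rcases j with _ | _ | j
      · rw [hj] at h3le; norm_num at h3le
      · norm_num at hj; omega
      · rw [hj]
        exact (by norm_num : 9 = 3 ^ 2).le.trans (Nat.pow_le_pow_right (by norm_num) (by omega))
    have hfib : ∀ q ∈ S.toFinset, (D.toFinset.filter fun x => π x = q).card = E.ncard := by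
      intro q hq
      obtain ⟨x, hx, rfl⟩ := Set.mem_toFinset.mp hq
      obtain ⟨h, hi, hh⟩ := M.at C hd hx
      rw [← Set.ncard_image_of_injective E hi, hh, ← Set.ncard_coe_finset]
      congr 1
      ext y
      simp only [Finset.coe_filter, Set.mem_toFinset, Set.mem_setOf_eq, cl]
      exact ⟨fun ⟨hy, k⟩ => ⟨hy, (hmk hx hy).mp k.symm⟩, fun ⟨hy, k⟩ => ⟨hy, ((hmk hx hy).mpr k).symm⟩⟩
    rw [Set.ncard_eq_toFinset_card' D, Finset.card_eq_sum_card_fiberwise (f := π) (t := S.toFinset)
      (fun x hx => by simpa [hS] using ⟨x, by simpa using hx, rfl⟩), Finset.sum_congr rfl hfib,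
      Finset.sum_const, smul_eq_mul, ← Set.ncard_eq_toFinset_card']
    exact Nat.mul_le_mul_right _ h9

/-- Many switches exchange two commuting members unless there are three cosets only. -/
theorem Emb.quot_or_many (hU : UniqueFactor E) :
    (∀ [L.Normal], Nonempty (G ⧸ L ≃* Equiv.Perm (Fin 3))) ∨
      ∀ a ∈ E, ∀ b ∈ E, a ≠ b → Commute a b → 4 * E.ncard ≤ {x | Sw E x ∧ x * a * x = b}.ncard := by
  refine (M.cosets C hd).imp id fun h9 a ha b hb hab hc => ?_
  have h1 := M.count C hd hU ha hb hab hc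
  have h2 : (cl D L d).ncard = E.ncard := by rw [← M.img, Set.ncard_image_of_injective _ M.inj]
  rw [Set.ncard_diff (fun x hx => hx.1) (Set.toFinite _), h2] at h1
  omega

end Cfsg.Agent.Spor.Triality
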