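import Cfsg.Agent.Lib.Spor.Triality.Switch
import Cfsg.Agent.Lib.Spor.Cos.Fi22Inv.Main
import Cfsg.Agent.Lib.Block.FischerTypes.M23Order
import Cfsg.Agent.Lib.Block.FischerTypes.M24Setting
import Cfsg.Agent.Lib.Grp.PolarRec.Iso
import Cfsg.Agent.Lib.Spor.FischerThm.SpModel

/-! No switch in the classes of type M(22), M(23), M(24). -/

set_option autoImplicit false
set_option linter.style.haveILetI false
set_option linter.unusedSectionVars false

namespace Cfsg.Agent.Spor.Triality

open Cfsg Cfsg.Agent.Spor Cfsg.Agent.Spor.ThreeTrans Cfsg.Agent.Block.FischerTypes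

variable {K : Type*} [Group K] [Finite K] {P : Set K}

/-- An automorphism of square one fixes a member of a class of type M(22). -/
theorem m22_fixed (C : M22.Ctx P) (φ : MulAut K) (hφ : ∀ x, φ (φ x) = x) : ∃ u ∈ P, φ u = u := by
  obtain ⟨e, he⟩ := Fus.M22U.exists_iso C
  let ψ : MulAut Cfsg.Spor.Fi22 := (e.trans φ).trans e.symm
  obtain ⟨p, hp⟩ := Cos.Fi22Inv.exists_fixed ψ (MulEquiv.ext fun x => by
    show e.symm (φ (e (e.symm (φ (e x))))) = x
    rw [e.apply_symm_apply, hφ, e.symm_apply_apply])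
  refine ⟨e (Fus.Fi22Out.setup.T p), he ▸ ⟨_, ?_, rfl⟩, e.symm.injective (hp.trans (e.symm_apply_apply _).symm)⟩
  show IsConj (Cos.Fi22.g 0) _
  rw [← Cos.Fi22Inv.ev_tw]
  exact Fus.Fi22Out.setup.isConj_T p

theorem m22_no_sw (hG : IsThreeTranspositionGroup P) (hp : IsPrimitiveUnderConj P) (h : IsOfTypeM22 K P) (y : K) :
    ¬ Sw P y := by
  rintro ⟨h2, hy⟩
  obtain ⟨u, hu, hf⟩ := m22_fixed (M22.ctx hG hp h) (MulAut.conj y) fun x => by
    simp only [MulAut.conj_apply]
    rw [show y * (y * x * y⁻¹) * y⁻¹ = (y * y) * x * (y * y)⁻¹ by group, h2, one_mul, inv_one, mul_one]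
  exact (hy u hu).1 (mul_inv_eq_iff_eq_mul.mp hf).symm

theorem m23_no_sw (hG : IsThreeTranspositionGroup P) (hp : IsPrimitiveUnderConj P) (h : IsOfTypeM23 K P) (y : K) :
    ¬ Sw P y := by
  rintro ⟨h2, hy⟩
  classical
  have B := M23.base hG hp h
  have hyi : y⁻¹ = y := inv_eq_of_mul_eq_one_right h2
  have hne : P.Nonempty := by obtain ⟨-, d, hd, -⟩ := h; exact ⟨d, hd⟩
  have hc := M23.total B hne (M23.counts B)
  rw [Set.ncard_eq_toFinset_card _ P.toFinite] at hc
  have hev : Even P.toFinite.toFinset.card := by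
    refine FischerThm.even_card_of_invol P.toFinite.toFinset (fun u => y * u * y) (fun u hu => ?_) (fun u _ => ?_)
      fun u hu e => ?_
    · rw [Set.Finite.mem_toFinset] at hu ⊢
      have := hG.2.1 y u hu
      rwa [hyi] at this
    · rw [show y * (y * u * y) * y = (y * y) * u * (y * y) by group, h2, one_mul, mul_one]
    · refine (hy u (P.toFinite.mem_toFinset.mp hu)).1 ?_
      calc u * y = y * u * y * y := by rw [e]
        _ = y * u := by rw [mul_assoc (y * u), h2, mul_one]
  rw [hc] at hev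
  exact absurd hev (by decide)

theorem m24_no_sw (hG : IsThreeTranspositionGroup P) (hp : IsPrimitiveUnderConj P) (h : IsOfTypeM24 K P) (y : K) :
    ¬ Sw P y := by
  rintro ⟨h2, hy⟩
  classical
  have B := M24.base hG hp h
  have hyi : y⁻¹ = y := inv_eq_of_mul_eq_one_right h2
  obtain ⟨d, hd, -⟩ := B.seed
  set x := y * d * y with hx
  have hxP : x ∈ P := by
    have := hG.2.1 y d hd
    rwa [hyi] at this
  have hxd : x ∈ perp P d := ⟨hxP, fun e => (hy d hd).1 (by
      calc d * y = y * d * y * y := by rw [← hx, e]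
        _ = y * d := by rw [mul_assoc (y * d), h2, mul_one]), (hy d hd).2⟩
  have B2 := B.sub d hd
  set q := pr P d x hxd
  have hq : q ∈ perpSet P d := pr_mem hxd
  have C := B2.ctx q hq
  have cls := B.set.cls
  have tf := B.set.tf
  have cls2 := B2.set.cls
  have tf2 := B2.set.tf
  have hdown : ∀ u ∈ common P d x, ∃ hu : u ∈ perp P d, pr P d u hu ∈ perp (perpSet P d) q := fun u hu =>
    ⟨hu.1, pr_mem hu.1, fun e => hu.2.2.1 (pr_injective cls tf hd hu.1 hxd e), commute_pr hxd hu.1 hu.2.2.2⟩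
  let r : ∀ u ∈ common P d x, PerpQuot (perpSet P d) q := fun u hu =>
    pr (perpSet P d) q (pr P d u (hdown u hu).1) (hdown u hu).2
  have rmem : ∀ u hu, r u hu ∈ perpSet (perpSet P d) q := fun u hu => pr_mem _
  have rinj : ∀ u hu v hv, r u hu = r v hv → u = v := fun u hu v hv e =>
    pr_injective cls tf hd _ _ (pr_injective cls2 tf2 hq _ _ e)
  have rsurj : ∀ w ∈ perpSet (perpSet P d) q, ∃ u hu, r u hu = w := by
    intro w hw
    obtain ⟨v, hv, rfl⟩ := exists_of_mem hw
    obtain ⟨u, hu, rfl⟩ := exists_of_mem hv.1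
    refine ⟨u, ⟨hu, hu.1, fun e => hv.2.1 ?_, commute_of_pr cls tf hd hxd hu hv.2.2⟩, rfl⟩
    subst e; rfl
  have hyc : ∀ u ∈ common P d x, y * u * y ∈ common P d x := by
    intro u hu
    have h1 : y * u * y⁻¹ ∈ perp P (y * d * y⁻¹) := by
      rw [perp_conj cls d y]; exact Set.mem_image_of_mem _ hu.1
    have h3 : y * u * y⁻¹ ∈ perp P (y * x * y⁻¹) := by
      rw [perp_conj cls x y]; exact Set.mem_image_of_mem _ hu.2
    simp only [hyi] at h1 h3
    rw [← hx] at h1
    rw [show y * x * y = d by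
      rw [hx, show y * (y * d * y) * y = (y * y) * d * (y * y) by group, h2, one_mul, mul_one]] at h3
    exact ⟨h3, h1⟩
  have hcm : ∀ u ∈ common P d x, ∀ v ∈ common P d x, u * v * u ∈ common P d x := fun u hu v hv =>
    FischerThm.common_conj_closed B.set hu hv
  have rconj : ∀ u hu v hv w hw, w = u * v * u → r w hw = r u hu * r v hv * r u hu := by
    intro u hu v hv w hw e
    subst e
    rfl
  clear_value r
  let σ : PerpQuot (perpSet P d) q → PerpQuot (perpSet P d) q := fun w =>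
    if hw : w ∈ perpSet (perpSet P d) q then r _ (hyc _ (rsurj w hw).choose_spec.choose) else 1
  have hσ : ∀ u hu, σ (r u hu) = r _ (hyc u hu) := by
    intro u hu
    simp only [σ, dif_pos (rmem u hu)]
    have key : ∀ a ha, a = u → r (y * a * y) (hyc a ha) = r _ (hyc u hu) := by
      intro a ha e; subst e; rfl
    exact key _ (rsurj _ (rmem u hu)).choose_spec.choose (rinj _ _ u hu (rsurj _ (rmem u hu)).choose_spec.choose_spec)
  obtain ⟨a, ha⟩ : ∃ a, a ∈ perpSet (perpSet P d) q := ⟨_, (C.set.cls.2.1).choose_spec.1⟩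
  obtain ⟨c, hc', hac⟩ := exists_not_commute C.set.cls (FischerThm.two_of_nc C.set.hyp) ha
  obtain ⟨τ, hτ⟩ := Grp.PolarRec.iso_of_equivariant C.set.cls C.cen ⟨a, ha, c, hc', fun e => hac (e ▸ Commute.refl a)⟩
    C.set.hyp C.cen σ (fun w hw => by
      obtain ⟨u, hu, rfl⟩ := rsurj w hw
      rw [hσ]; exact rmem _ _)
    (fun w hw => by
      obtain ⟨u, hu, rfl⟩ := rsurj w hw
      refine ⟨_, rmem _ (hyc u hu), ?_⟩
      rw [hσ]
      have key : ∀ a ha, a = u → r a ha = r u hu := by intro a ha e; subst e; rfl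
      exact key _ _ (by rw [show y * (y * u * y) * y = (y * y) * u * (y * y) by group, h2, one_mul, mul_one]))
    (S := perpSet (perpSet P d) q) (le_refl _) closure_perpSet (fun s hs b hb => by
      obtain ⟨u, hu, rfl⟩ := rsurj s hs
      obtain ⟨v, hv, rfl⟩ := rsurj b hb
      rw [← rconj u hu v hv _ (hcm u hu v hv) rfl, hσ, hσ, hσ]
      refine rconj _ _ _ _ _ _ ?_
      calc y * (u * v * u) * y = y * u * (y * y) * v * (y * y) * u * y := by rw [h2]; group
        _ = y * u * y * (y * v * y) * (y * u * y) := by group)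
  have hττ : τ.toMonoidHom.comp τ.toMonoidHom = MonoidHom.id _ := MonoidHom.eq_of_eqOn_dense closure_perpSet (by
    intro w hw
    obtain ⟨u, hu, rfl⟩ := rsurj w hw
    show τ (τ (r u hu)) = r u hu
    rw [hτ _ (rmem u hu), hσ, hτ _ (rmem _ _), hσ]
    have key : ∀ a ha, a = u → r a ha = r u hu := by intro a ha e; subst e; rfl
    exact key _ _ (by rw [show y * (y * u * y) * y = (y * y) * u * (y * y) by group, h2, one_mul, mul_one]))
  obtain ⟨w, hw, hfix⟩ := m22_fixed C τ fun z => DFunLike.congr_fun hττ z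
  obtain ⟨u, hu, rfl⟩ := rsurj w hw
  rw [hτ _ (rmem u hu), hσ] at hfix
  have e := rinj _ _ _ _ hfix
  refine (hy u hu.1.1).1 ?_
  calc u * y = y * u * y * y := by rw [e]
    _ = y * u := by rw [mul_assoc (y * u), h2, mul_one]

end Cfsg.Agent.Spor.Triality
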