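import Cfsg.Agent.Lib.Spor.Triality.OrthSw

/-! In dimension eight at most 448 switches exchange two orthogonal nonsingular vectors. -/

set_option autoImplicit false
set_option linter.style.haveILetI false
set_option linter.unusedSectionVars false
set_option quotPrecheck false

namespace Cfsg.Agent.Spor.Triality

open Cfsg Matrix Module Cfsg.Agent.Spor

variable {ι : Type} [Fintype ι] [DecidableEq ι] {Q : QuadraticForm (ZMod 2) (ι → ZMod 2)}

local notation "B" => QuadraticMap.polar ⇑Q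

/-- Prescribed values against vectors with duals cut the space by their number. -/
theorem fib_le {k : ℕ} (p q : Fin k → ι → ZMod 2) (hpq : ∀ i j, B (p i) (q j) = if i = j then 1 else 0)
    (α : Fin k → ZMod 2) :
    (Finset.univ.filter fun t => ∀ i, B (p i) t = α i).card * 2 ^ k ≤ 2 ^ Fintype.card ι := by
  classical
  have h := Finset.card_le_card_of_injOn (s := (Finset.univ.filter fun t => ∀ i, B (p i) t = α i) ×ˢ
      (Finset.univ : Finset (Fin k → ZMod 2))) (t := (Finset.univ : Finset (ι → ZMod 2)))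
    (fun ts => ts.1 + ∑ j, ts.2 j • q j) (fun _ _ => Finset.mem_univ _) ?_
  · rwa [Finset.card_product, Finset.card_univ, Finset.card_univ, Fintype.card_fun, Fintype.card_fun, ZMod.card,
      Fintype.card_fin] at h
  · rintro ⟨t, s⟩ ht ⟨t', s'⟩ ht' e
    simp only [Finset.coe_product, Set.mem_prod, Finset.coe_filter, Finset.mem_univ, true_and] at ht ht'
    have hs : s = s' := funext fun i => by
      have h' := congrArg (fun x => QuadraticMap.polarBilin Q (p i) x) e
      simpa [map_add, map_sum, hpq, ht.1 i, ht'.1 i] using h'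
    subst hs
    simpa using e

variable (hQ : (QuadraticMap.polarBilin Q).Nondegenerate)
include hQ

theorem two_fun {v w : ι → ZMod 2} (hv : v ≠ 0) (hvw : v ≠ w) (hw : w ≠ 0) :
    ∃ y, B v y = 1 ∧ B w y = 0 := by
  obtain ⟨y1, h1⟩ := OrthTwo.exists_polar_one Q hQ hv
  have cz : ∀ t : ZMod 2, t = 0 ∨ t = 1 := by decide
  rcases cz (B w y1) with k | k
  · exact ⟨y1, h1, k⟩
  obtain ⟨y2, h2⟩ := OrthTwo.exists_polar_one Q hQ (v := v + w) fun e => hvw (eq_of_add_eq_zero2 e)
  rw [QuadraticMap.polar_add_left] at h2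
  rcases cz (B v y2) with k1 | k1 <;> rw [k1] at h2
  · refine ⟨y1 + y2, ?_, ?_⟩
    · rw [QuadraticMap.polar_add_right, h1, k1, add_zero]
    · rw [QuadraticMap.polar_add_right, k, show B w y2 = 1 by simpa using h2]; rfl
  · refine ⟨y2, k1, ?_⟩
    rcases cz (B w y2) with k2 | k2
    · exact k2
    · rw [k2] at h2; exact absurd h2 (by decide)

set_option maxHeartbeats 2000000 in
theorem orth_count (hcard : Fintype.card ι = 8) {v w : ι → ZMod 2} (hv : Q v = 1) (hw : Q w = 1) (hne : v ≠ w) :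
    {g | Sw (FischerThm.OTwo.tset Q) g ∧
      g * FischerThm.OTwo.pt Q v * g = FischerThm.OTwo.pt Q w}.ncard ≤ 448 := by
  classical
  set S := {g | Sw (FischerThm.OTwo.tset Q) g ∧ g * FischerThm.OTwo.pt Q v * g = FischerThm.OTwo.pt Q w}
  rw [Set.ncard_eq_toFinset_card' S]
  set T := S.toFinset
  have hM : ∀ g ∈ T, Swi Q (act g) ∧ act g v = w ∧ act g w = v := fun g hg => by
    obtain ⟨h, e⟩ := Set.mem_toFinset.mp hg
    have S' := swi_of_sw hQ h
    have e1 := swap_of_sw hQ h hv hw e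
    exact ⟨S', e1, by rw [← e1, S'.inv]⟩
  have hv0 : v ≠ 0 := fun e => by rw [e, QuadraticMap.map_zero] at hv; exact zero_ne_one hv
  have hw0 : w ≠ 0 := fun e => by rw [e, QuadraticMap.map_zero] at hw; exact zero_ne_one hw
  obtain ⟨x, hvx, hwx⟩ := two_fun hQ hv0 hne hw0
  have cm := fun s t => QuadraticMap.polar_comm (⇑Q) s t
  by_cases hTe : T = ∅
  · rw [hTe]; simp
  obtain ⟨g0, hg0⟩ := Finset.nonempty_iff_ne_empty.mpr hTe
  have zfacts : ∀ g ∈ T, B v w = 0 ∧ B v (act g x) = 0 ∧ B w (act g x) = 1 ∧ B x (act g x) = 0 := fun g hg => by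
    obtain ⟨S', e1, e2⟩ := hM g hg
    refine ⟨by rw [← e1]; exact S'.bMv v, ?_, ?_, S'.bMv x⟩
    · rw [← e2, S'.bM, hwx]
    · rw [← e1, S'.bM, hvx]
  obtain ⟨hvw, z0v, z0w, z0x⟩ := zfacts g0 hg0
  -- first image
  have hZ : (T.image fun g => act g x).card ≤ 32 := by
    have h := fib_le (Q := Q) ![v, w, x] ![x, act g0 x, v] (fun i j => by
      fin_cases i <;> fin_cases j <;>
        simp [hvx, hwx, z0v, z0w, z0x, polar_self2, FischerThm.OTwo.two2, cm w v, hvw, cm x v]) ![0, 1, 0]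
    rw [hcard] at h
    refine le_trans (Finset.card_le_card fun t ht => ?_)
      (show (Finset.univ.filter fun t => ∀ i, B (![v, w, x] i) t = ![0, 1, 0] i).card ≤ 32 by omega)
    obtain ⟨g, hg, rfl⟩ := Finset.mem_image.mp ht
    obtain ⟨-, k1, k2, k3⟩ := zfacts g hg
    refine Finset.mem_filter.mpr ⟨Finset.mem_univ _, fun i => ?_⟩
    fin_cases i <;> simp [k1, k2, k3]
  refine le_trans (Finset.card_le_mul_card_image T 14 (f := fun g => act g x) fun z hz => ?_) (by omega)
  obtain ⟨g1, hg1, rfl⟩ := Finset.mem_image.mp hz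
  obtain ⟨-, zv, zw, zx⟩ := zfacts g1 hg1
  set z := act g1 x with hzdef
  let proj : (ι → ZMod 2) → (ι → ZMod 2) := fun u => u + (B x u • v + B v u • x + (B z u • w + B w u • z))
  have bp : ∀ s u, B s (proj u) = B s u + (B x u * B s v + B v u * B s x + (B z u * B s w + B w u * B s z)) :=
    fun s u => by
      show QuadraticMap.polarBilin Q s (proj u) = _
      simp [proj, map_add, map_smul]
  have porth : ∀ u, B v (proj u) = 0 ∧ B w (proj u) = 0 ∧ B x (proj u) = 0 ∧ B z (proj u) = 0 := fun u => by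
    refine ⟨?_, ?_, ?_, ?_⟩ <;> rw [bp] <;>
      simp [hvw, hvx, hwx, zv, zw, zx, polar_self2, FischerThm.OTwo.two2, cm w v, cm x v, cm x w, cm z v, cm z w, cm z x,
        CharTwo.add_self_eq_zero]
  obtain ⟨a, ha, av, aw, ax, az⟩ : ∃ a, Q a = 1 ∧ B v a = 0 ∧ B w a = 0 ∧ B x a = 0 ∧ B z a = 0 := by
    by_contra hno
    push Not at hno
    have hq : ∀ u, Q (proj u) = 0 := fun u => by
      by_contra hc
      obtain ⟨p1, p2, p3, p4⟩ := porth u
      exact hno _ (OrthTwo.eq_one_two _ hc) p1 p2 p3 p4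
    have hpadd : ∀ u u', proj (u + u') = proj u + proj u' := fun u u' => by
      simp only [proj, QuadraticMap.polar_add_right, add_smul]; abel
    have hp0 : ∀ u, proj u = 0 := fun u => hQ.1 _ fun u' => by
      show B (proj u) u' = 0
      obtain ⟨p1, p2, p3, p4⟩ := porth u
      have e := bp (proj u) u'
      rw [cm (proj u) v, cm (proj u) x, cm (proj u) w, cm (proj u) z, p1, p2, p3, p4] at e
      simp only [mul_zero, add_zero] at e
      rw [← e, QuadraticMap.polar, ← hpadd, hq, hq, hq]; simp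
    have hinj : Function.Injective fun u => (B x u, B v u, B z u, B w u) := fun u u' e => by
      simp only [Prod.mk.injEq] at e
      have h1 := hp0 u
      have h2 := hp0 u'
      simp only [proj, e.1, e.2.1, e.2.2.1, e.2.2.2] at h1
      exact (eq_of_add_eq_zero2 h1).trans (eq_of_add_eq_zero2 h2).symm
    have := Fintype.card_le_of_injective _ hinj
    simp only [Fintype.card_fun, Fintype.card_prod, ZMod.card, hcard] at this
    norm_num at this
  have pa : ∀ u, B a (proj u) = B a u := fun u => by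
    rw [bp, cm a v, cm a x, cm a w, cm a z, av, aw, ax, az]; simp
  obtain ⟨ua, hua⟩ := OrthTwo.exists_polar_one Q hQ (v := a) fun e => by
    rw [e, QuadraticMap.map_zero] at ha; exact zero_ne_one ha
  set T1 := T.filter fun g => act g x = z
  have bfacts : ∀ g ∈ T1, B v (act g a) = 0 ∧ B w (act g a) = 0 ∧ B x (act g a) = 0 ∧ B z (act g a) = 0 ∧
      B a (act g a) = 0 ∧ act g a ≠ a ∧ Q (act g a) = 1 := fun g hg => by
    obtain ⟨hgT, hgx⟩ := Finset.mem_filter.mp hg
    obtain ⟨S', e1, e2⟩ := hM g hgT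
    have e3 : act g z = x := by rw [← hgx, S'.inv]
    refine ⟨?_, ?_, ?_, ?_, S'.bMv a, S'.free a ha, by rw [act_q, ha]⟩
    · rw [← e2, S'.bM, aw]
    · rw [← e1, S'.bM, av]
    · rw [← e3, S'.bM, az]
    · rw [← hgx, S'.bM, ax]
  -- second image
  have hB : (T1.image fun g => act g a).card ≤ 7 := by
    obtain ⟨p1, p2, p3, p4⟩ := porth ua
    have h := fib_le (Q := Q) ![v, w, x, z, a] ![x, z, v, w, proj ua] (fun i j => by
      fin_cases i <;> fin_cases j <;>
        simp [hvx, hwx, hvw, zv, zw, zx, p1, p2, p3, p4, pa, hua, polar_self2, FischerThm.OTwo.two2, cm w v, cm x v, cm x w, cm z v,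
          cm z w, cm z x, cm a v, cm a w, cm a x, cm a z, av, aw, ax, az]) ![0, 0, 0, 0, 0]
    rw [hcard] at h
    set T5 := Finset.univ.filter fun t => ∀ i, B (![v, w, x, z, a] i) t = ![0, 0, 0, 0, 0] i
    have hsub : (T1.image fun g => act g a) ⊆ T5.erase a := fun t ht => by
      obtain ⟨g, hg, rfl⟩ := Finset.mem_image.mp ht
      obtain ⟨k1, k2, k3, k4, k5, k6, -⟩ := bfacts g hg
      refine Finset.mem_erase.mpr ⟨k6, Finset.mem_filter.mpr ⟨Finset.mem_univ _, fun i => ?_⟩⟩
      fin_cases i <;> simp [k1, k2, k3, k4, k5]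
    have haT : a ∈ T5 := Finset.mem_filter.mpr ⟨Finset.mem_univ _, fun i => by
      fin_cases i <;> simp [av, aw, ax, az, polar_self2, FischerThm.OTwo.two2]⟩
    have h2 := Finset.card_le_card hsub
    rw [Finset.card_erase_of_mem haT] at h2
    omega
  refine le_trans (Finset.card_le_mul_card_image T1 2 (f := fun g => act g a) fun b hb => ?_) (by omega)
  obtain ⟨g2, hg2, rfl⟩ := Finset.mem_image.mp hb
  obtain ⟨bv, bw, bx, bz, ba, bne, hqb⟩ := bfacts g2 hg2
  set b := act g2 a with hbdef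
  obtain ⟨u2, ha2, hb2⟩ := two_fun hQ (v := a) (w := b) (fun e => by
    rw [e, QuadraticMap.map_zero] at ha; exact zero_ne_one ha) bne.symm (fun e => by
    rw [e, QuadraticMap.map_zero] at hqb; exact zero_ne_one hqb)
  set a2 := proj u2
  obtain ⟨q1, q2, q3, q4⟩ : B v a2 = 0 ∧ B w a2 = 0 ∧ B x a2 = 0 ∧ B z a2 = 0 := porth u2
  have a2a : B a a2 = 1 := (pa u2).trans ha2
  have a2b : B b a2 = 0 := by
    rw [bp, cm b v, cm b x, cm b w, cm b z, bv, bw, bx, bz, hb2]; simp
  set T2 := T1.filter fun g => act g a = b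
  have cfacts : ∀ g ∈ T2, B v (act g a2) = 0 ∧ B w (act g a2) = 0 ∧ B x (act g a2) = 0 ∧ B z (act g a2) = 0 ∧
      B b (act g a2) = 1 ∧ B a (act g a2) = 0 ∧ B a2 (act g a2) = 0 := fun g hg => by
    obtain ⟨hg', hga⟩ := Finset.mem_filter.mp hg
    obtain ⟨hgT, hgx⟩ := Finset.mem_filter.mp hg'
    obtain ⟨S', e1, e2⟩ := hM g hgT
    have e3 : act g z = x := by rw [← hgx, S'.inv]
    have e4 : act g b = a := by rw [← hga, S'.inv]
    refine ⟨?_, ?_, ?_, ?_, ?_, ?_, S'.bMv a2⟩
    · rw [← e2, S'.bM, q2]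
    · rw [← e1, S'.bM, q1]
    · rw [← e3, S'.bM, q4]
    · rw [← hgx, S'.bM, q3]
    · rw [← hga, S'.bM, a2a]
    · rw [← e4, S'.bM, a2b]
  by_cases hT2e : T2 = ∅
  · rw [hT2e]; simp
  obtain ⟨g3, hg3⟩ := Finset.nonempty_iff_ne_empty.mpr hT2e
  obtain ⟨c1, c2, c3, c4, c5, c6, c7⟩ := cfacts g3 hg3
  have h := fib_le (Q := Q) ![v, w, x, z, a, b, a2] ![x, z, v, w, a2, act g3 a2, a] (fun i j => by
    fin_cases i <;> fin_cases j <;>
      simp [hvx, hwx, hvw, zv, zw, zx, polar_self2, FischerThm.OTwo.two2, cm w v, cm x v, cm x w, cm z v, cm z w, cm z x, cm a v, cm a w,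
        cm a x, cm a z, av, aw, ax, az, cm b v, cm b w, cm b x, cm b z, bv, bw, bx, bz, cm b a, ba, q1, q2, q3, q4,
        cm a2 v, cm a2 w, cm a2 x, cm a2 z, a2a, a2b, cm a2 a, c1, c2, c3, c4, c5, c6, c7]) ![0, 0, 0, 0, 0, 1, 0]
  rw [hcard] at h
  refine le_trans ?_ (show (Finset.univ.filter fun t =>
    ∀ i, B (![v, w, x, z, a, b, a2] i) t = ![0, 0, 0, 0, 0, 1, 0] i).card ≤ 2 by omega)
  refine Finset.card_le_card_of_injOn (fun g => act g a2) (fun g hg => ?_) fun g hg g' hg' e => ?_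
  · obtain ⟨k1, k2, k3, k4, k5, k6, k7⟩ := cfacts g hg
    refine Finset.mem_filter.mpr ⟨Finset.mem_univ _, fun i => ?_⟩
    fin_cases i <;> simp [k1, k2, k3, k4, k5, k6, k7]
  -- a switch is determined by the three images
  obtain ⟨k1, k2, k3, k4, k5, k6, k7⟩ := cfacts g hg
  set c := act g a2 with hc
  have hdual : ∀ i j, B (![v, w, x, z, a, b, a2, c] i) (![x, z, v, w, a2, c, a, b] j) = if i = j then 1 else 0 :=
    fun i j => by
      fin_cases i <;> fin_cases j <;>
        simp [hvx, hwx, hvw, zv, zw, zx, polar_self2, FischerThm.OTwo.two2, cm w v, cm x v, cm x w, cm z v, cm z w, cm z x, cm a v, cm a w,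
          cm a x, cm a z, av, aw, ax, az, cm b v, cm b w, cm b x, cm b z, bv, bw, bx, bz, cm b a, ba, q1, q2, q3, q4,
          cm a2 v, cm a2 w, cm a2 x, cm a2 z, a2a, a2b, cm a2 a, cm a2 b, k1, k2, k3, k4, k5, k6, k7, cm c v, cm c w,
          cm c x, cm c z, cm c a, cm c b, cm c a2]
  have hli : LinearIndependent (ZMod 2) ![v, w, x, z, a, b, a2, c] := Fintype.linearIndependent_iff.mpr fun s hs j => by
    have h' := congrArg (fun t => QuadraticMap.polarBilin Q t (![x, z, v, w, a2, c, a, b] j)) hs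
    simp only [map_sum, LinearMap.sum_apply, map_smul, LinearMap.smul_apply, QuadraticMap.polarBilin_apply_apply,
      hdual, map_zero, LinearMap.zero_apply, smul_eq_mul] at h'
    simpa using h'
  have hsp := hli.span_eq_top_of_card_eq_finrank (by
    rw [Fintype.card_fin, Module.finrank_fintype_fun_eq_card, hcard])
  have hext : act g = act g' := LinearMap.ext_on_range hsp fun i => by
    obtain ⟨hg1', hga⟩ := Finset.mem_filter.mp hg
    obtain ⟨hgT, hgx⟩ := Finset.mem_filter.mp hg1'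
    obtain ⟨hg1'', hga'⟩ := Finset.mem_filter.mp hg'
    obtain ⟨hgT', hgx'⟩ := Finset.mem_filter.mp hg1''
    obtain ⟨S1, d1, d2⟩ := hM g hgT
    obtain ⟨S2, f1, f2⟩ := hM g' hgT'
    have e' : act g' a2 = c := e.symm
    fin_cases i <;> simp [d1, d2, f1, f2, hgx, hgx', hga, hga', e', ← hc]
    · rw [← hgx, S1.inv, hgx, ← hgx', S2.inv]
    · rw [← hga, S1.inv, hga, ← hga', S2.inv]
    · rw [show act g c = a2 from S1.inv a2, ← e', S2.inv]
  exact act_inj fun u => LinearMap.congr_fun hext u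

omit hQ

/-- The transvections of the hyperbolic form of dimension eight. -/
theorem orth_tset_card : 120 ≤ (FischerThm.OTwo.tset (Classical.qfPlus 4 (ZMod 2))).ncard := by
  classical
  have hQ4 := OrthTwo.nondeg_plus 4
  set Q4 := Classical.qfPlus 4 (ZMod 2)
  have h : (Finset.univ.filter fun v : Fin 4 ⊕ Fin 4 → ZMod 2 => quadFormPlus 4 (ZMod 2) v = 1).card = 120 := by
    decide +kernel
  rw [← h, ← Set.ncard_coe_finset]
  refine Set.ncard_le_ncard_of_injOn (FischerThm.OTwo.pt Q4) (fun v hv => ?_) (fun v hv v' hv' e => ?_) (Set.toFinite _)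
  · simp only [Finset.coe_filter, Finset.mem_univ, true_and] at hv
    exact FischerThm.OTwo.pt_mem Q4 hQ4 (by rw [Classical.qfPlus_apply]; exact hv)
  · simp only [Finset.coe_filter, Finset.mem_univ, true_and] at hv hv'
    exact FischerThm.OTwo.pt_inj Q4 hQ4 (by rw [Classical.qfPlus_apply]; exact hv)
      (by rw [Classical.qfPlus_apply]; exact hv') e

end Cfsg.Agent.Spor.Triality
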