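import Cfsg.Agent.Lib.Spor.Triality.OrthFrame

/-! In dimension above eight a switch has too many conjugates. -/

set_option autoImplicit false
set_option linter.style.haveILetI false
set_option linter.unusedSectionVars false

namespace Cfsg.Agent.Spor.Triality

open Cfsg Matrix Module Cfsg.Agent.Spor

/-- Parameters of an alternating matrix. -/
abbrev Alt (α : Type) : Type := {a : Sym2 α // ¬ a.IsDiag} → ZMod 2

/-- An alternating matrix. -/
def alt {α : Type} [DecidableEq α] (f : Alt α) : Matrix α α (ZMod 2) :=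
  fun s t => if h : s = t then 0 else f ⟨s(s, t), fun k => h (Sym2.mk_isDiag_iff.mp k)⟩

theorem alt_symm {α : Type} [DecidableEq α] (f : Alt α) (s t : α) : alt f s t = alt f t s := by
  by_cases h : s = t
  · rw [h]
  · simp only [alt, dif_neg h, dif_neg (Ne.symm h)]
    congr 1
    exact Subtype.ext Sym2.eq_swap

theorem alt_diag {α : Type} [DecidableEq α] (f : Alt α) (s : α) : alt f s s = 0 := dif_pos rfl

theorem alt_inj {α : Type} [DecidableEq α] {f g : Alt α} (h : ∀ s t, s ≠ t → alt f s t = alt g s t) : f = g := by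
  funext ⟨a, ha⟩
  induction a using Sym2.ind with
  | h s t =>
    have hne : s ≠ t := fun e => ha (Sym2.mk_isDiag_iff.mpr e)
    simpa [alt, hne] using h s t hne

theorem alt_quad {α : Type} [Fintype α] [DecidableEq α] (f : Alt α) (x : α → ZMod 2) :
    x ⬝ᵥ (alt f *ᵥ x) = 0 := by
  simp only [dotProduct, Matrix.mulVec, Finset.mul_sum]
  rw [← Fintype.sum_prod_type' (f := fun s t => x s * (alt f s t * x t))]
  refine Finset.sum_involution (fun p _ => p.swap) (fun p _ => ?_) (fun p _ hp e => hp ?_)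
    (fun p _ => Finset.mem_univ _) fun p _ => Prod.swap_swap p
  · show x p.1 * (alt f p.1 p.2 * x p.2) + x p.2 * (alt f p.2 p.1 * x p.1) = 0
    rw [alt_symm f p.2 p.1, show x p.2 * (alt f p.1 p.2 * x p.1) = x p.1 * (alt f p.1 p.2 * x p.2) by ring]
    exact CharTwo.add_self_eq_zero _
  · have e' : p.1 = p.2 := (congrArg Prod.snd e : _)
    simp [e', alt_diag]

theorem alt_card (α : Type) [Fintype α] [DecidableEq α] :
    Fintype.card (Alt α) = 2 ^ (Fintype.card α).choose 2 := by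
  rw [Fintype.card_fun, ZMod.card, Sym2.card_subtype_not_diag]

variable {r : ℕ}

/-- The parameters of a conjugate. -/
abbrev Par (r : ℕ) : Type := Alt (Fin r ⊕ Fin r) × Alt (Fin r) × Alt (Fin r)

/-- The strictly upper half. -/
def upper (f : Alt (Fin r)) : Matrix (Fin r) (Fin r) (ZMod 2) := fun i j => if i < j then alt f i j else 0

/-- The Levi factor. -/
def levi (f g : Alt (Fin r)) : Matrix (Fin r ⊕ Fin r) (Fin r ⊕ Fin r) (ZMod 2) :=
  Matrix.fromBlocks 1 0 (upper f) (1 + upper g)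

/-- The swap. -/
def swapMat (r : ℕ) : Matrix (Fin r ⊕ Fin r) (Fin r ⊕ Fin r) (ZMod 2) := Matrix.fromBlocks 0 1 1 0

/-- The alternating form of a conjugate. -/
def bform (f g : Alt (Fin r)) : Matrix (Fin r ⊕ Fin r) (Fin r ⊕ Fin r) (ZMod 2) :=
  (levi f g)ᵀ * swapMat r * levi f g

theorem levi_det (f g : Alt (Fin r)) : (levi f g).det = 1 := by
  rw [levi, Matrix.det_fromBlocks_zero₁₂, Matrix.det_one, one_mul, Matrix.det_of_isUpperTriangular]
  · simp [upper]
  · intro i j hij
    have hne : i ≠ j := Ne.symm (ne_of_lt hij)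
    simp [upper, Matrix.one_apply_ne hne, not_lt_of_gt (show j < i from hij)]

theorem bform_eq (f g : Alt (Fin r)) :
    bform f g = Matrix.fromBlocks (alt f) (1 + upper g) (1 + upper g)ᵀ 0 := by
  rw [bform, levi, swapMat, Matrix.fromBlocks_transpose, Matrix.fromBlocks_multiply, Matrix.fromBlocks_multiply]
  simp only [Matrix.transpose_one, Matrix.transpose_zero, Matrix.mul_zero, Matrix.zero_mul, Matrix.one_mul,
    Matrix.mul_one, zero_add, add_zero]
  congr 1
  ext i j
  rcases lt_trichotomy i j with h | rfl | h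
  · simp [upper, h, not_lt_of_gt h]
  · simp [upper, alt_diag]
  · simp [upper, h, not_lt_of_gt h, alt_symm f i j]

theorem bform_inj {f g f' g' : Alt (Fin r)} (h : bform f g = bform f' g') : f = f' ∧ g = g' := by
  rw [bform_eq, bform_eq, Matrix.fromBlocks_inj] at h
  refine ⟨alt_inj fun s t _ => by rw [h.1], alt_inj fun s t hst => ?_⟩
  have h' : upper g = upper g' := (add_right_inj (1 : Matrix (Fin r) (Fin r) (ZMod 2))).mp h.2.1
  have h2 := fun i j => congrFun (congrFun h' i) j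
  rcases lt_or_gt_of_ne hst with k | k
  · simpa [upper, k] using h2 s t
  · rw [alt_symm g, alt_symm g']
    simpa [upper, k] using h2 t s

/-- The conjugate in coordinates. -/
def ymap (A b : Matrix (Fin r ⊕ Fin r) (Fin r ⊕ Fin r) (ZMod 2))
    (z : (Fin r ⊕ Fin r → ZMod 2) × (Fin r ⊕ Fin r → ZMod 2)) :
    (Fin r ⊕ Fin r → ZMod 2) × (Fin r ⊕ Fin r → ZMod 2) :=
  (z.1 + b *ᵥ (z.2 + A *ᵥ z.1), z.2 + A *ᵥ z.1 + A *ᵥ (z.1 + b *ᵥ (z.2 + A *ᵥ z.1)))

theorem ymap_inj {A A' b b' : Matrix (Fin r ⊕ Fin r) (Fin r ⊕ Fin r) (ZMod 2)}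
    (hb : Function.Injective b'.mulVec) (h : ∀ z, ymap A b z = ymap A' b' z) : A = A' ∧ b = b' := by
  have hA : A = A' := by
    refine Matrix.ext_iff_mulVec.2 fun x => ?_
    have h1 := congrArg Prod.fst (h (x, A *ᵥ x))
    simp only [ymap, add_self2, Matrix.mulVec_zero, add_zero] at h1
    have h2 := hb ((left_eq_add.mp h1).trans (Matrix.mulVec_zero _).symm)
    exact eq_of_add_eq_zero2 h2
  refine ⟨hA, Matrix.ext_iff_mulVec.2 fun c => ?_⟩
  have h1 := congrArg Prod.fst (h (0, c))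
  simpa [ymap] using h1

/-- The conjugating map. -/
noncomputable def hmap (A P : Matrix (Fin r ⊕ Fin r) (Fin r ⊕ Fin r) (ZMod 2)) :
    ((Fin r ⊕ Fin r → ZMod 2) × (Fin r ⊕ Fin r → ZMod 2)) →ₗ[ZMod 2]
      ((Fin r ⊕ Fin r → ZMod 2) × (Fin r ⊕ Fin r → ZMod 2)) :=
  LinearMap.prod ((Pᵀ).mulVecLin.comp (LinearMap.fst _ _ _))
    ((P⁻¹).mulVecLin.comp (LinearMap.snd _ _ _) + (A * Pᵀ).mulVecLin.comp (LinearMap.fst _ _ _))

theorem hmap_apply (A P : Matrix (Fin r ⊕ Fin r) (Fin r ⊕ Fin r) (ZMod 2))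
    (z : (Fin r ⊕ Fin r → ZMod 2) × (Fin r ⊕ Fin r → ZMod 2)) :
    hmap A P z = (Pᵀ *ᵥ z.1, P⁻¹ *ᵥ z.2 + A *ᵥ (Pᵀ *ᵥ z.1)) := by
  refine Prod.ext rfl ?_
  show P⁻¹ *ᵥ z.2 + (A * Pᵀ) *ᵥ z.1 = _
  rw [← Matrix.mulVec_mulVec]

theorem hmap_q (f : Alt (Fin r ⊕ Fin r)) {P : Matrix (Fin r ⊕ Fin r) (Fin r ⊕ Fin r) (ZMod 2)} (hP : IsUnit P.det)
    (z : (Fin r ⊕ Fin r → ZMod 2) × (Fin r ⊕ Fin r → ZMod 2)) :
    (hmap (alt f) P z).1 ⬝ᵥ (hmap (alt f) P z).2 = z.1 ⬝ᵥ z.2 := by
  rw [hmap_apply, dotProduct_add, alt_quad, add_zero, Matrix.dotProduct_mulVec, Matrix.mulVec_transpose,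
    Matrix.vecMul_vecMul, Matrix.mul_nonsing_inv _ hP, Matrix.vecMul_one]

theorem hmap_inj {A P : Matrix (Fin r ⊕ Fin r) (Fin r ⊕ Fin r) (ZMod 2)} (hP : IsUnit P.det) :
    Function.Injective (hmap A P) := by
  intro z w h
  rw [hmap_apply, hmap_apply, Prod.mk.injEq] at h
  have h1 : z.1 = w.1 := by
    have := congrArg ((P⁻¹)ᵀ *ᵥ ·) h.1
    simpa only [Matrix.mulVec_mulVec, ← Matrix.transpose_mul, Matrix.mul_nonsing_inv _ hP, Matrix.transpose_one,
      Matrix.one_mulVec] using this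
  refine Prod.ext h1 ?_
  have h2 := h.2
  rw [h1, add_left_inj] at h2
  have := congrArg (P *ᵥ ·) h2
  simpa only [Matrix.mulVec_mulVec, Matrix.mul_nonsing_inv _ hP, Matrix.one_mulVec] using this

theorem ymap_hmap (A : Matrix (Fin r ⊕ Fin r) (Fin r ⊕ Fin r) (ZMod 2))
    {P : Matrix (Fin r ⊕ Fin r) (Fin r ⊕ Fin r) (ZMod 2)} (hP : IsUnit P.det)
    (z : (Fin r ⊕ Fin r → ZMod 2) × (Fin r ⊕ Fin r → ZMod 2)) :
    ymap A (Pᵀ * swapMat r * P) (hmap A P z) = hmap A P (z.1 + swapMat r *ᵥ z.2, z.2) := by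
  rw [hmap_apply, hmap_apply, ymap]
  have e : P⁻¹ *ᵥ z.2 + A *ᵥ (Pᵀ *ᵥ z.1) + A *ᵥ (Pᵀ *ᵥ z.1) = P⁻¹ *ᵥ z.2 := by
    rw [add_assoc, add_self2, add_zero]
  simp only [e]
  have e2 : (Pᵀ * swapMat r * P) *ᵥ (P⁻¹ *ᵥ z.2) = Pᵀ *ᵥ (swapMat r *ᵥ z.2) := by
    rw [Matrix.mulVec_mulVec, Matrix.mul_nonsing_inv_cancel_right _ _ hP, ← Matrix.mulVec_mulVec]
  rw [e2, ← Matrix.mulVec_add]

theorem swapMat_mulVec (c : Fin r ⊕ Fin r → ZMod 2) : swapMat r *ᵥ c = fun s => c s.swap := by
  rw [swapMat, Matrix.fromBlocks_mulVec]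
  funext s
  rcases s with i | i <;> simp

section Count

variable {ι : Type} [Fintype ι] [DecidableEq ι] {Q : QuadraticForm (ZMod 2) (ι → ZMod 2)}
  {M : (ι → ZMod 2) →ₗ[ZMod 2] (ι → ZMod 2)} {S : Swi Q M} {a b : Fin r → ι → ZMod 2}
  (F : Frame S a b)

theorem two_mul_le {α : Type} [Fintype α] (T U : Finset α) (f : α → α) (hT : T ⊆ U)
    (hf : ∀ x ∈ T, f x ∈ U ∧ f x ∉ T) (hi : Set.InjOn f T) : 2 * T.card ≤ U.card := by
  classical
  have h : (T ∪ T.image f).card ≤ U.card := Finset.card_le_card (Finset.union_subset hT fun x hx => by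
    obtain ⟨y, hy, rfl⟩ := Finset.mem_image.mp hx
    exact (hf y hy).1)
  rw [Finset.card_union_of_disjoint (Finset.disjoint_left.mpr fun x hx hx' => by
    obtain ⟨y, hy, rfl⟩ := Finset.mem_image.mp hx'
    exact (hf y hy).2 hx), Finset.card_image_of_injOn hi] at h
  omega

include F

theorem Frame.pairs_lt (hQ : (QuadraticMap.polarBilin Q).Nondegenerate) (hcard : Fintype.card ι = 4 * r)
    (hr : 1 ≤ r) : (pairs (FischerThm.OTwo.tset Q)).ncard < 2 ^ (8 * r - 3) := by
  classical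
  set φ := LinearEquiv.ofBijective F.lin (F.bij hcard) with hφ
  set S1 := Finset.univ.filter fun v : ι → ZMod 2 => Q v = 1
  have hS1 : 2 * S1.card ≤ 2 ^ (4 * r) := by
    let e : (Fin r ⊕ Fin r → ZMod 2) → (Fin r ⊕ Fin r → ZMod 2) := fun x =>
      if h : ∃ i, x i = 1 then Pi.single h.choose 1 else 0
    let f : (ι → ZMod 2) → (ι → ZMod 2) := fun v => φ ((φ.symm v).1, (φ.symm v).2 + e (φ.symm v).1)
    have hf : ∀ v ∈ S1, Q (f v) = 0 := fun v hv => by
      obtain ⟨z, rfl⟩ := φ.surjective v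
      have hz : z.1 ⬝ᵥ z.2 = 1 := by rw [← F.q_lin z]; exact (Finset.mem_filter.mp hv).2
      have hex : ∃ i, z.1 i = 1 := by
        by_contra hno
        push Not at hno
        have h0 : z.1 = 0 := funext fun i => by
          by_contra hc
          exact hno i (OrthTwo.eq_one_two _ hc)
        rw [h0, zero_dotProduct] at hz
        exact zero_ne_one hz
      simp only [f, φ.symm_apply_apply]
      rw [show φ (z.1, z.2 + e z.1) = F.lin (z.1, z.2 + e z.1) from rfl, F.q_lin, dotProduct_add, hz]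
      simp only [e, dif_pos hex, dotProduct_single, hex.choose_spec, mul_one]
      rfl
    have := two_mul_le S1 Finset.univ f (Finset.subset_univ _) (fun v hv => ⟨Finset.mem_univ _, fun k => by
      have h0 := hf v hv
      rw [(Finset.mem_filter.mp k).2] at h0
      exact one_ne_zero h0⟩) fun v _ w _ h => by
        have h' := φ.injective h
        rw [Prod.mk.injEq] at h'
        refine φ.symm.injective (Prod.ext h'.1 ?_)
        have h2 := h'.2
        rw [h'.1] at h2
        exact add_right_cancel h2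
    rwa [Finset.card_univ, Fintype.card_fun, ZMod.card, hcard] at this
  set P2 := (S1 ×ˢ S1).filter fun p => QuadraticMap.polar ⇑Q p.1 p.2 = 0 ∧ p.1 ≠ p.2
  have hP2 : (pairs (FischerThm.OTwo.tset Q)).ncard ≤ P2.card := by
    have hsub : pairs (FischerThm.OTwo.tset Q) ⊆
        Prod.map (FischerThm.OTwo.pt Q) (FischerThm.OTwo.pt Q) '' (P2 : Set ((ι → ZMod 2) × (ι → ZMod 2))) := by
      rintro ⟨x, y⟩ ⟨hx, hy, hne, hc⟩
      obtain ⟨u, hu, rfl⟩ := FischerThm.OTwo.exists_pt Q hQ hx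
      obtain ⟨w, hw, rfl⟩ := FischerThm.OTwo.exists_pt Q hQ hy
      refine ⟨(u, w), ?_, rfl⟩
      simp only [P2, S1, Finset.coe_filter, Finset.mem_product, Finset.mem_filter, Finset.mem_univ, true_and]
      exact ⟨⟨hu, hw⟩, (FischerThm.OTwo.pt_commute Q hQ hu hw).mp hc, fun e => hne (by rw [show u = w from e])⟩
    refine (Set.ncard_le_ncard hsub (Set.toFinite _)).trans ((Set.ncard_image_le (Set.toFinite _)).trans ?_)
    rw [Set.ncard_coe_finset]
  have hfib : ∀ u ∈ S1, (P2.filter fun p => p.1 = u).card ≤ 2 ^ (4 * r - 2) - 1 := by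
    intro u hu
    have hqu : Q u = 1 := (Finset.mem_filter.mp hu).2
    obtain ⟨z, hz⟩ := OrthTwo.exists_polar_one Q hQ (v := u) fun e => by
      rw [e, QuadraticMap.map_zero] at hqu; exact zero_ne_one hqu
    set T := Finset.univ.filter fun w : ι → ZMod 2 => QuadraticMap.polar ⇑Q u w = 0
    set W := T.filter fun w => Q w = 1
    have h1 : 2 * T.card ≤ 2 ^ (4 * r) := by
      have := two_mul_le T Finset.univ (· + z) (Finset.subset_univ _) (fun w hw => ⟨Finset.mem_univ _, fun k => by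
        have e := (Finset.mem_filter.mp k).2
        rw [QuadraticMap.polar_add_right, (Finset.mem_filter.mp hw).2, hz, zero_add] at e
        exact one_ne_zero e⟩) fun v _ w _ h => add_right_cancel h
      rwa [Finset.card_univ, Fintype.card_fun, ZMod.card, hcard] at this
    have h2 : 2 * W.card ≤ T.card := two_mul_le W T (· + u) (Finset.filter_subset _ _) (fun w hw => by
      obtain ⟨hT, hq⟩ := Finset.mem_filter.mp hw
      have hb := (Finset.mem_filter.mp hT).2
      refine ⟨Finset.mem_filter.mpr ⟨Finset.mem_univ _, ?_⟩, fun k => ?_⟩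
      · rw [QuadraticMap.polar_add_right, hb, polar_self2, add_zero]
      · have e := (Finset.mem_filter.mp k).2
        rw [QuadraticMap.map_add ⇑Q, hq, hqu, QuadraticMap.polar_comm, hb] at e
        exact absurd e (by decide)) fun v _ w _ h => add_right_cancel h
    have huW : u ∈ W := Finset.mem_filter.mpr ⟨Finset.mem_filter.mpr ⟨Finset.mem_univ _, polar_self2 u⟩, hqu⟩
    have h3 : (P2.filter fun p => p.1 = u).card ≤ (W.erase u).card :=
      Finset.card_le_card_of_injOn Prod.snd (fun p hp => by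
        simp only [P2, S1, Finset.coe_filter, Finset.mem_product, Finset.mem_filter, Finset.mem_univ, true_and,
          Set.mem_setOf_eq] at hp
        obtain ⟨⟨⟨-, hw⟩, hb, hne⟩, rfl⟩ := hp
        simp [W, T, hw, hb, Ne.symm hne]) fun p hp q hq h => by
          simp only [Finset.coe_filter, Set.mem_setOf_eq] at hp hq
          exact Prod.ext (hp.2.trans hq.2.symm) h
    rw [Finset.card_erase_of_mem huW] at h3
    have e4 : 2 ^ (4 * r) = 2 ^ (4 * r - 2) * 4 := by
      rw [show 4 = 2 ^ 2 from rfl, ← pow_add]; congr 1; omega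
    omega
  have hle := Finset.card_le_mul_card_image_of_maps_to (f := Prod.fst) (t := S1) (s := P2)
    (fun p hp => (Finset.mem_product.mp (Finset.mem_filter.mp hp).1).1) _ hfib
  have hS : S1.card ≤ 2 ^ (4 * r - 1) := by
    have e4 : 2 ^ (4 * r) = 2 ^ (4 * r - 1) * 2 := by rw [← pow_succ]; congr 1; omega
    omega
  have hpos : 1 ≤ 2 ^ (4 * r - 2) := Nat.one_le_two_pow
  calc (pairs (FischerThm.OTwo.tset Q)).ncard ≤ (2 ^ (4 * r - 2) - 1) * S1.card := hP2.trans hle
    _ ≤ (2 ^ (4 * r - 2) - 1) * 2 ^ (4 * r - 1) := Nat.mul_le_mul_left _ hS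
    _ < 2 ^ (4 * r - 2) * 2 ^ (4 * r - 1) := Nat.mul_lt_mul_of_pos_right (by omega) (Nat.two_pow_pos _)
    _ = 2 ^ (8 * r - 3) := by rw [← pow_add]; congr 1; omega

theorem Frame.orbit_ge (hcard : Fintype.card ι = 4 * r) (g : ↥(isometryGroup (ZMod 2) ⇑Q))
    (hg : ∀ v, M v = act g v) :
    2 ^ ((2 * r).choose 2 + r.choose 2 + r.choose 2) ≤ (conjugatesOf g).ncard := by
  classical
  set φ := LinearEquiv.ofBijective F.lin (F.bij hcard) with hφ
  have hgz : ∀ z, act g (φ z) = φ (z.1 + swapMat r *ᵥ z.2, z.2) := fun z => by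
    have h := F.N_lin z
    rw [S.N_apply, hg] at h
    show act g (F.lin z) = F.lin _
    calc act g (F.lin z) = F.lin z + F.lin (fun s => z.2 s.swap, 0) := by
          rw [← h, ← add_assoc, add_comm (F.lin z), add_assoc, add_self2, add_zero]
      _ = _ := by rw [← map_add, Prod.mk_add_mk, add_zero, swapMat_mulVec]
  have hunit : ∀ f f' : Alt (Fin r), IsUnit (levi f f').det := fun f f' => by rw [levi_det]; exact isUnit_one
  have hinj : ∀ p : Par r, Function.Injective (hmap (alt p.1) (levi p.2.1 p.2.2)) := fun p =>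
    hmap_inj (hunit _ _)
  let L : Par r → ((ι → ZMod 2) →ₗ[ZMod 2] (ι → ZMod 2)) := fun p =>
    φ.toLinearMap.comp ((hmap (alt p.1) (levi p.2.1 p.2.2)).comp φ.symm.toLinearMap)
  have hL : ∀ p, Function.Injective (LinearMap.toMatrix' (L p)).mulVec := fun p v w h => by
    rw [LinearMap.toMatrix'_mulVec, LinearMap.toMatrix'_mulVec] at h
    exact φ.symm.injective (hinj p (φ.injective h))
  let G : Par r → ↥(isometryGroup (ZMod 2) ⇑Q) := fun p => Classical.mkIsometry (LinearMap.toMatrix' (L p))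
    ((Matrix.isUnit_iff_isUnit_det _).mp (Matrix.mulVec_injective_iff_isUnit.mp (hL p))).ne_zero fun u => by
      rw [LinearMap.toMatrix'_mulVec]
      show Q (F.lin (hmap _ _ (φ.symm u))) = _
      rw [F.q_lin, hmap_q p.1 (hunit _ _), ← F.q_lin]
      exact congrArg Q (φ.apply_symm_apply u)
  have hGa : ∀ p z, act (G p) (φ z) = φ (hmap (alt p.1) (levi p.2.1 p.2.2) z) := fun p z => by
    show LinearMap.toMatrix' (L p) *ᵥ φ z = _
    rw [LinearMap.toMatrix'_mulVec]
    simp [L]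
  have key : ∀ p w, act (G p * g * (G p)⁻¹) (φ w) = φ (ymap (alt p.1) (bform p.2.1 p.2.2) w) := by
    intro p w
    obtain ⟨z, rfl⟩ := (LinearMap.injective_iff_surjective.mp (hinj p)) w
    rw [← hGa, ← act_mul, show G p * g * (G p)⁻¹ * G p = G p * g by group, act_mul, hgz, hGa, bform,
      ymap_hmap _ (hunit _ _)]
  have hPinj : Function.Injective fun p : Par r => G p * g * (G p)⁻¹ := by
    rintro ⟨A, f, f'⟩ ⟨A', k, k'⟩ h
    have hb : Function.Injective (bform k k').mulVec := by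
      rw [Matrix.mulVec_injective_iff_isUnit, Matrix.isUnit_iff_isUnit_det, bform, Matrix.det_mul, Matrix.det_mul,
        Matrix.det_transpose, levi_det, one_mul, mul_one, ← Matrix.isUnit_iff_isUnit_det,
        ← Matrix.mulVec_injective_iff_isUnit]
      intro u v huv
      rw [swapMat_mulVec, swapMat_mulVec] at huv
      funext s
      simpa using congrFun huv s.swap
    obtain ⟨eA, eb⟩ := ymap_inj hb fun w => φ.injective (by
      rw [← key (A, f, f') w, ← key (A', k, k') w]; exact congrArg (fun t => act t (φ w)) h)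
    obtain ⟨rfl, rfl⟩ := bform_inj eb
    obtain rfl := alt_inj fun s t _ => congrFun (congrFun eA s) t
    rfl
  have hle := Set.ncard_le_ncard (show Set.range (fun p : Par r => G p * g * (G p)⁻¹) ⊆ conjugatesOf g by
    rintro _ ⟨p, rfl⟩; exact isConj_iff.mpr ⟨G p, rfl⟩) (Set.toFinite _)
  rw [Set.ncard_range_of_injective hPinj, Nat.card_eq_fintype_card] at hle
  rw [Fintype.card_prod, Fintype.card_prod, alt_card, alt_card, Fintype.card_sum, Fintype.card_fin, ← two_mul,
    ← pow_add, ← pow_add, ← add_assoc] at hle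
  exact hle

end Count

/-- A switch with a small class lives in dimension at most eight. -/
theorem orth_dim {ι : Type} [Fintype ι] [DecidableEq ι] {Q : QuadraticForm (ZMod 2) (ι → ZMod 2)}
    (hQ : (QuadraticMap.polarBilin Q).Nondegenerate) {m : ℕ} (hm : Fintype.card ι = 2 * m) (h4 : 4 ≤ m)
    {g : ↥(isometryGroup (ZMod 2) ⇑Q)} (h : Sw (FischerThm.OTwo.tset Q) g)
    (ho : (conjugatesOf g).ncard ≤ (pairs (FischerThm.OTwo.tset Q)).ncard) : m = 4 := by
  obtain ⟨r, a, b, rfl, F⟩ := exists_frame hQ (swi_of_sw hQ h) hm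
  by_contra hne
  have h1 := F.pairs_lt hQ (by omega) (by omega)
  have h2 := F.orbit_ge (by omega) g fun _ => rfl
  have e : 8 * r - 3 ≤ (2 * r).choose 2 + r.choose 2 + r.choose 2 := by
    obtain ⟨k, rfl⟩ : ∃ k, r = k + 3 := ⟨r - 3, by omega⟩
    have c2 : ∀ n : ℕ, (n + 1).choose 2 = n + n.choose 2 := fun n => by
      show (n + 1).choose (1 + 1) = _
      rw [Nat.choose_succ_succ', Nat.choose_one_right]
    have t : ∀ j, j + 3 ≤ (j + 3).choose 2 := fun j => by
      induction j with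
      | zero => decide
      | succ j ih => rw [show j + 1 + 3 = (j + 3) + 1 by ring, c2]; omega
    have t2 : ∀ j, 8 * j + 15 ≤ (2 * (j + 3)).choose 2 := fun j => by
      induction j with
      | zero => decide
      | succ j ih =>
        rw [show 2 * (j + 1 + 3) = (2 * (j + 3) + 1) + 1 by ring, c2, c2]
        omega
    have := t k
    have := t2 k
    omega
  have h3 := Nat.pow_le_pow_right (show 0 < 2 by norm_num) e
  exact absurd (h3.trans (h2.trans ho)) (not_le.mpr h1)

end Cfsg.Agent.Spor.Triality
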