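import Mathlib

/-! Anticommuting maps with scalar squares bound the dimension from below. -/

set_option autoImplicit false
set_option linter.style.haveILetI false
set_option linter.unusedSectionVars false

namespace Cfsg.Agent.Spor.Triality

open Module

theorem anti_dvd (j : ℕ) : ∀ (W : Type) [AddCommGroup W] [Module (ZMod 3) W] [FiniteDimensional (ZMod 3) W]
    (ε : ZMod 3), (ε = 1 ∨ ε = -1) → ∀ f : Fin (2 * j) → W →ₗ[ZMod 3] W,
    (∀ i w, f i (f i w) = ε • w) → (∀ i k, i ≠ k → ∀ w, f i (f k w) = -f k (f i w)) →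
      2 ^ j ∣ finrank (ZMod 3) W := by
  induction j with
  | zero => intros; simp
  | succ j ih =>
    intro W _ _ _ ε hε f hsq hanti
    let i0 : Fin (2 * (j + 1)) := ⟨0, by omega⟩
    let i1 : Fin (2 * (j + 1)) := ⟨1, by omega⟩
    let il : Fin (2 * j) → Fin (2 * (j + 1)) := fun l => ⟨l + 2, by omega⟩
    have h01 : i0 ≠ i1 := by simp [i0, i1, Fin.ext_iff]
    have hl0 : ∀ l, il l ≠ i0 := fun l => by simp [il, i0, Fin.ext_iff]
    have hl1 : ∀ l, il l ≠ i1 := fun l => Fin.ne_of_val_ne (show (l : ℕ) + 2 ≠ 1 by omega)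
    have d4 : ∀ t : ZMod 3, (2 + 2) * t = t := by decide
    have four : ∀ w : W, (2 : ZMod 3) • w + (2 : ZMod 3) • w = w := fun w => by
      rw [← add_smul, show (2 : ZMod 3) + 2 = 1 by decide, one_smul]
    obtain ⟨s, r, hs, hr, hsr, hls, hlr⟩ : ∃ s r : W →ₗ[ZMod 3] W, (∀ w, s (s w) = w) ∧ (∀ w, r (r w) = w) ∧
        (∀ w, s (r w) = -r (s w)) ∧ (∀ l w, f (il l) (s w) = -s (f (il l) w)) ∧
        (∀ l w, f (il l) (r w) = -r (f (il l) w)) := by
      rcases hε with rfl | rfl
      · exact ⟨f i0, f i1, fun w => by rw [hsq, one_smul], fun w => by rw [hsq, one_smul],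
          hanti i0 i1 h01, fun l => hanti _ _ (hl0 l), fun l => hanti _ _ (hl1 l)⟩
      · have m2 : ∀ w : W, -w + -w = w := fun w => by
          calc -w + -w = (-1 : ZMod 3) • w + (-1 : ZMod 3) • w := by rw [neg_one_smul]
            _ = w := by rw [← add_smul, show (-1 : ZMod 3) + -1 = 1 by decide, one_smul]
        refine ⟨f i0 + f i1, f i0 - f i1, fun w => ?_, fun w => ?_, fun w => ?_, fun l w => ?_, fun l w => ?_⟩
        · simp only [LinearMap.add_apply, map_add, hsq, hanti i1 i0 h01.symm, neg_one_smul]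
          conv_rhs => rw [← m2 w]
          abel
        · simp only [LinearMap.sub_apply, map_sub, hsq, hanti i1 i0 h01.symm, neg_one_smul]
          conv_rhs => rw [← m2 w]
          abel
        · simp only [LinearMap.add_apply, LinearMap.sub_apply, map_add, map_sub, hsq, hanti i1 i0 h01.symm,
            neg_one_smul]
          abel
        · simp only [LinearMap.add_apply, map_add, hanti _ _ (hl0 l), hanti _ _ (hl1 l)]
          abel
        · simp only [LinearMap.sub_apply, map_sub, hanti _ _ (hl0 l), hanti _ _ (hl1 l)]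
          abel
    let P : Submodule (ZMod 3) W := LinearMap.ker (s - LinearMap.id)
    have hP : ∀ w, w ∈ P ↔ s w = w := fun w => by
      simp [P, LinearMap.mem_ker, sub_eq_zero]
    let p : W →ₗ[ZMod 3] W := (2 : ZMod 3) • (LinearMap.id + s)
    have hp : ∀ w, p w ∈ P := fun w => by
      rw [hP]
      simp only [p, LinearMap.smul_apply, LinearMap.add_apply, LinearMap.id_apply, map_smul, map_add, hs]
      rw [add_comm]
    let φ : W →ₗ[ZMod 3] ↥P × ↥P := (p.codRestrict P hp).prod ((p.comp r).codRestrict P fun w => hp _)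
    have hinj : Function.Injective φ := LinearMap.ker_eq_bot.mp <| LinearMap.ker_eq_bot'.mpr fun w hw => by
      have e1 : p w = 0 := congrArg (fun q : ↥P × ↥P => (q.1 : W)) hw
      have e2 : p (r w) = 0 := congrArg (fun q : ↥P × ↥P => (q.2 : W)) hw
      have e3 : r (p (r w)) = (2 : ZMod 3) • (w - s w) := by
        simp only [p, LinearMap.smul_apply, LinearMap.add_apply, LinearMap.id_apply, map_smul, map_add, hsr,
          map_neg, hr, sub_eq_add_neg]
      rw [e2, map_zero] at e3
      have e1' : (2 : ZMod 3) • (w + s w) = 0 := e1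
      calc w = (2 : ZMod 3) • w + (2 : ZMod 3) • w := (four w).symm
        _ = (2 : ZMod 3) • (w + s w) + (2 : ZMod 3) • (w - s w) := by rw [← smul_add, ← smul_add]; abel_nf
        _ = 0 := by rw [e1', ← e3, add_zero]
    have hsurj : Function.Surjective φ := by
      rintro ⟨⟨a, ha⟩, ⟨b, hb⟩⟩
      rw [hP] at ha hb
      refine ⟨a + r b, Prod.ext (Subtype.ext ?_) (Subtype.ext ?_)⟩
      · show p (a + r b) = a
        simp only [p, LinearMap.smul_apply, LinearMap.add_apply, LinearMap.id_apply, map_add, hsr, hb, ha]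
        rw [add_neg_cancel, smul_zero, add_zero, smul_add]
        exact four a
      · show p (r (a + r b)) = b
        simp only [p, LinearMap.smul_apply, LinearMap.add_apply, LinearMap.id_apply, map_add, map_neg, hsr, hr, hb, ha]
        rw [add_neg_cancel, smul_zero, zero_add, smul_add]
        exact four b
    have hdim : finrank (ZMod 3) W = finrank (ZMod 3) ↥P + finrank (ZMod 3) ↥P := by
      rw [(LinearEquiv.ofBijective φ ⟨hinj, hsurj⟩).finrank_eq, Module.finrank_prod]
    have hz : ∀ l w, w ∈ P → r (f (il l) w) ∈ P := fun l w hw => by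
      rw [hP] at hw ⊢
      have e : s (f (il l) w) = -f (il l) w := by
        conv_rhs => rw [← hw, hls l w, neg_neg]
      rw [hsr, e, map_neg, neg_neg]
    have hd := ih ↥P (-ε) (hε.elim (fun e => Or.inr (by rw [e])) fun e => Or.inl (by rw [e, neg_neg]))
      (fun l => (r.comp (f (il l))).restrict (hz l)) (fun l w => Subtype.ext ?_) fun l k hlk w => Subtype.ext ?_
    · rw [hdim, ← two_mul, pow_succ']
      exact Nat.mul_dvd_mul_left 2 hd
    · show r (f (il l) (r (f (il l) (w : W)))) = ((-ε) • w : ↥P).1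
      rw [hlr, map_neg, hr, hsq, Submodule.coe_smul, neg_smul]
    · show r (f (il l) (r (f (il k) (w : W)))) = -(r (f (il k) (r (f (il l) (w : W)))))
      have : il l ≠ il k := fun e => hlk (Fin.ext (by simpa [il, Fin.ext_iff] using e))
      rw [hlr, map_neg, hr, hlr, map_neg, hr, hanti _ _ this]

end Cfsg.Agent.Spor.Triality
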