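import Cfsg.Agent.Lib.Spor.Triality.ReflSw
import Cfsg.Agent.Lib.Spor.Triality.Anticomm
import Cfsg.Agent.Lib.Spor.ReflectionStructThree
import Cfsg.Agent.Lib.Classical.PrimeGraphBCOrth

/-! Switches with cliques live in dimension eight, the form is hyperbolic and few exchange two given members. -/

set_option autoImplicit false
set_option linter.style.haveILetI false
set_option linter.unusedSectionVars false

namespace Cfsg.Agent.Spor.Triality

open Cfsg Matrix Module Cfsg.Agent.Spor Cfsg.Agent.Spor.FischerThm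

variable {n : ℕ} {Q : QuadraticForm (ZMod 3) (Q3.V n)} {c : ZMod 3}

theorem refl_dim (hc : c ≠ 0) (hn : 5 ≤ n) (hQ : (QuadraticMap.polarBilin Q).Nondegenerate)
    (H : ∀ (k : ℕ) (t : Fin (k + 1) → RGrp Q c), (∀ i, t i ∈ rset Q c) → Function.Injective t →
      (∀ i j, Commute (t i) (t j)) → ∃ y : Fin k → RGrp Q c, (∀ i, Sw (rset Q c) (y i)) ∧
        (∀ i j, Commute (y i) (y j)) ∧ ∀ i j, i ≠ j → Sw (rset Q c) (y i * y j)) : n = 8 := by
  have hv : ∀ k, k + 1 ≤ n → ∃ v : Fin k → Q3.V n, (∀ i, Q (v i) = c) ∧ ∀ i j, i ≠ j → Q3.B Q (v i) (v j) = 0 := by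
    intro k
    induction k with
    | zero => exact fun _ => ⟨Fin.elim0, fun i => i.elim0, fun i => i.elim0⟩
    | succ k ih =>
      intro hk
      obtain ⟨v, hv, hp⟩ := ih (by omega)
      obtain ⟨w, hw, hwp⟩ := ReflThree.exists_norm_perp hQ hc (k := k) (by omega) v (fun i => by rw [hv]; exact hc) hp
      refine ⟨Fin.snoc v w, fun i => ?_, fun i j hij => ?_⟩
      · refine Fin.lastCases ?_ (fun i => ?_) i <;> simp [hw, hv]
      · revert hij
        refine Fin.lastCases ?_ (fun i => ?_) i <;> refine Fin.lastCases ?_ (fun j => ?_) j <;> intro hij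
        · exact absurd rfl hij
        · simpa [Q3.B_comm Q w] using hwp j
        · simpa using hwp i
        · simpa using hp i j fun e => hij (by rw [e])
  obtain ⟨v, hvq, hvp⟩ := hv (n - 2 + 1) (by omega)
  obtain ⟨y, hy, hyc, hyp⟩ := H (n - 2) (fun i => rp hc (hvq i)) (fun i => rp_mem hc _) (fun i j e => by
      by_contra hij
      have h0 := hvp i j hij
      rcases rp_inj hc hn hQ (hvq i) (hvq j) e with k | k <;> rw [k] at h0
      · rw [Q3.B_self, hvq] at h0
        exact mul_ne_zero (by decide) hc h0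
      · rw [Q3.B_neg_left, Q3.B_self, hvq, neg_eq_zero] at h0
        exact mul_ne_zero (by decide) hc h0)
    fun i j => by
      by_cases hij : i = j
      · subst hij; exact Commute.refl _
      · exact (rr_commute hc (hvq i) (hvq j) (hvp i j hij)).map (QuotientGroup.mk' _)
  choose s hs using fun i => QuotientGroup.mk_surjective (y i)
  set j := (n - 2) / 2 with hj
  have hdvd := anti_dvd j (Q3.V n) (-1) (Or.inr rfl) (fun i => ract (s (Fin.castLE (by omega) i)))
    (fun i w => by
      rw [neg_one_smul]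
      exact (sw_lift hn hQ hc (hs _ ▸ hy _)).1 w)
    (fun i k hik w => sw_anticomm hn hQ hc (hs _ ▸ hy _) (hs _ ▸ hy _) (by rw [hs, hs]; exact hyc _ _)
      (by rw [hs, hs]; exact hyp _ _ fun e => hik (Fin.castLE_injective _ e)) w)
  rw [Module.finrank_fintype_fun_eq_card, Fintype.card_fin] at hdvd
  by_contra h8
  have hle := Nat.le_of_dvd (by omega) hdvd
  by_cases h10 : n < 10
  · interval_cases n <;> simp_all (config := { decide := true })
  · have t : ∀ i, 4 ≤ i → 2 * i + 3 < 2 ^ i := fun i hi => by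
      induction i, hi using Nat.le_induction with
      | base => decide
      | succ i hi ih => rw [pow_succ]; omega
    have := t j (by omega)
    omega

/-- A complex structure. -/
structure RSw (Q : QuadraticForm (ZMod 3) (Q3.V n)) (M : Q3.V n →ₗ[ZMod 3] Q3.V n) : Prop where
  q : ∀ v, Q (M v) = Q v
  neg : ∀ v, M (M v) = -v
  orth : ∀ v, Q3.B Q v (M v) = 0

theorem RSw.adj {M : Q3.V n →ₗ[ZMod 3] Q3.V n} (S : RSw Q M) (u v : Q3.V n) :
    Q3.B Q (M u) v = -Q3.B Q u (M v) := by
  have h : Q3.B Q (M u) (M (M v)) = Q3.B Q u (M v) := by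
    simp only [Q3.B, QuadraticMap.polar, ← map_add, S.q]
  rw [S.neg, Q3.B_neg_right] at h
  rw [← h, neg_neg]

/-- Orthogonal vectors of the norm with their images. -/
structure Pairs (M : Q3.V n →ₗ[ZMod 3] Q3.V n) (Q : QuadraticForm (ZMod 3) (Q3.V n)) (c : ZMod 3) {k : ℕ}
    (v : Fin k → Q3.V n) : Prop where
  norm : ∀ i, Q (v i) = c
  vv : ∀ i j, i ≠ j → Q3.B Q (v i) (v j) = 0
  vM : ∀ i j, Q3.B Q (v i) (M (v j)) = 0

theorem Pairs.gram {M : Q3.V n →ₗ[ZMod 3] Q3.V n} (S : RSw Q M) {k : ℕ} {v : Fin k → Q3.V n}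
    (P : Pairs M Q c v) (s t : Fin k ⊕ Fin k) :
    Q3.B Q (Sum.elim v (fun i => M (v i)) s) (Sum.elim v (fun i => M (v i)) t) = if s = t then 2 * c else 0 := by
  rcases s with i | i <;> rcases t with j | j
  · by_cases h : i = j
    · subst h; simp [Q3.B_self, P.norm]
    · simp [h, P.vv i j h]
  · simp [P.vM]
  · simp [Q3.B_comm Q (M (v i)), P.vM]
  · simp only [Sum.elim_inr, Sum.inr.injEq]
    rw [S.adj, S.neg, Q3.B_neg_right, neg_neg]
    by_cases h : i = j
    · subst h; simp [Q3.B_self, P.norm]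
    · simp [h, P.vv i j h]

theorem Pairs.extend (hc : c ≠ 0) (hQ : (QuadraticMap.polarBilin Q).Nondegenerate)
    {M : Q3.V n →ₗ[ZMod 3] Q3.V n} (S : RSw Q M) {k : ℕ} {v : Fin k → Q3.V n}
    (P : Pairs M Q c v) (hk : 2 * k < n) :
    ∃ u, Q u = c ∧ (∀ i, Q3.B Q (v i) u = 0) ∧ ∀ i, Q3.B Q (M (v i)) u = 0 := by
  classical
  set e : Fin k ⊕ Fin k → Q3.V n := Sum.elim v (fun i => M (v i)) with he
  let proj : Q3.V n → Q3.V n := fun z => z + ∑ s, (c * Q3.B Q (e s) z) • e s
  have horth : ∀ z t, Q3.B Q (e t) (proj z) = 0 := fun z t => by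
    show QuadraticMap.polarBilin Q (e t) (proj z) = 0
    simp only [proj, map_add, map_sum, map_smul, QuadraticMap.polarBilin_apply_apply, smul_eq_mul, he,
      Pairs.gram S P, mul_ite, mul_zero, Finset.sum_ite_eq, Finset.mem_univ, if_true]
    have d : ∀ c b : ZMod 3, c ≠ 0 → b + c * b * (2 * c) = 0 := by decide
    exact d c _ hc
  obtain ⟨z, hz⟩ : ∃ z, Q (proj z) ≠ 0 := by
    by_contra hno
    push Not at hno
    have hadd : ∀ z z', proj (z + z') = proj z + proj z' := fun z z' => by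
      simp only [proj, Q3.B_add_right, mul_add, add_smul, Finset.sum_add_distrib]; abel
    have h0 : ∀ z, proj z = 0 := fun z => hQ.1 _ fun y => by
      show Q3.B Q (proj z) y = 0
      have e1 : Q3.B Q (proj z) (proj y) = 0 := by rw [Q3.B, QuadraticMap.polar, ← hadd, hno, hno, hno]; simp
      have e2 : Q3.B Q (proj z) (proj y) = Q3.B Q (proj z) y := by
        show QuadraticMap.polarBilin Q (proj z) (y + ∑ s, (c * Q3.B Q (e s) y) • e s) = _
        simp only [map_add, map_sum, map_smul, QuadraticMap.polarBilin_apply_apply, Q3.B_comm Q (proj z) (e _),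
          horth, smul_zero, Finset.sum_const_zero, add_zero]
      rw [← e2, e1]
    have hle : (⊤ : Submodule (ZMod 3) (Q3.V n)) ≤ Submodule.span (ZMod 3) (Set.range e) := fun z _ => by
      have := h0 z
      rw [show z = -(∑ s, (c * Q3.B Q (e s) z) • e s) from eq_neg_of_add_eq_zero_left this]
      exact neg_mem (Submodule.sum_mem _ fun s _ => Submodule.smul_mem _ _ (Submodule.subset_span ⟨s, rfl⟩))
    have h1 := Submodule.finrank_mono hle
    have h2 := finrank_range_le_card (R := ZMod 3) e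
    rw [Set.finrank, Fintype.card_sum, Fintype.card_fin] at h2
    rw [finrank_top, Module.finrank_fintype_fun_eq_card, Fintype.card_fin] at h1
    omega
  have ov : ∀ i, Q3.B Q (v i) (proj z) = 0 := fun i => horth z (Sum.inl i)
  have oM : ∀ i, Q3.B Q (M (v i)) (proj z) = 0 := fun i => horth z (Sum.inr i)
  by_cases hq : Q (proj z) = c
  · exact ⟨_, hq, ov, oM⟩
  refine ⟨proj z + M (proj z), ?_, fun i => ?_, fun i => ?_⟩
  · rw [Q3.q_add, S.q, S.orth, add_zero]
    have d : ∀ c q : ZMod 3, c ≠ 0 → q ≠ 0 → q ≠ c → q + q = c := by decide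
    exact d c _ hc hz hq
  · rw [Q3.B_add_right, ov, zero_add, ← neg_eq_zero, ← S.adj, oM]
  · rw [Q3.B_add_right, oM, zero_add, S.adj, S.neg, Q3.B_neg_right, ov, neg_zero, neg_zero]

theorem Pairs.snoc {M : Q3.V n →ₗ[ZMod 3] Q3.V n} (S : RSw Q M) {k : ℕ} {v : Fin k → Q3.V n}
    (P : Pairs M Q c v) {u : Q3.V n} (hu : Q u = c) (h1 : ∀ i, Q3.B Q (v i) u = 0)
    (h2 : ∀ i, Q3.B Q (M (v i)) u = 0) : Pairs M Q c (Fin.snoc v u) := by
  constructor
  · intro i; refine Fin.lastCases ?_ (fun i => ?_) i <;> simp [hu, P.norm]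
  · intro i j hij
    revert hij
    refine Fin.lastCases ?_ (fun i => ?_) i <;> refine Fin.lastCases ?_ (fun j => ?_) j <;> intro hij
    · exact absurd rfl hij
    · simpa [Q3.B_comm Q u] using h1 j
    · simpa using h1 i
    · simpa using P.vv i j fun e => hij (by rw [e])
  · intro i j
    refine Fin.lastCases ?_ (fun i => ?_) i <;> refine Fin.lastCases ?_ (fun j => ?_) j <;>
      simp [S.orth, P.vM, Q3.B_comm Q u (M (v _)), h2]
    rw [← neg_eq_zero, ← S.adj, h2]

theorem Pairs.complete (hc : c ≠ 0) (hQ : (QuadraticMap.polarBilin Q).Nondegenerate)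
    {M : Q3.V 8 →ₗ[ZMod 3] Q3.V 8} {Q : QuadraticForm (ZMod 3) (Q3.V 8)}
    (hQ8 : (QuadraticMap.polarBilin Q).Nondegenerate) (S : RSw Q M) (j : ℕ) :
    ∀ {k : ℕ} (hk : k + j = 4) {v : Fin k → Q3.V 8}, Pairs M Q c v →
      ∃ v' : Fin 4 → Q3.V 8, Pairs M Q c v' ∧ ∀ i : Fin k, v' (Fin.castLE (by omega) i) = v i := by
  induction j with
  | zero =>
    intro k hk v P
    obtain rfl : k = 4 := by omega
    exact ⟨v, P, fun i => rfl⟩
  | succ j ih =>
    intro k hk v P
    obtain ⟨u, hu, h1, h2⟩ := P.extend hc hQ8 S (by omega)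
    obtain ⟨v', P', he⟩ := ih (k := k + 1) (by omega) (P.snoc S hu h1 h2)
    refine ⟨v', P', fun i => ?_⟩
    have := he i.castSucc
    rw [Fin.snoc_castSucc] at this
    exact this

variable {Q : QuadraticForm (ZMod 3) (Q3.V 8)} {M : Q3.V 8 →ₗ[ZMod 3] Q3.V 8} {v : Fin 4 → Q3.V 8}

theorem Pairs.coords (hc : c ≠ 0) (S : RSw Q M) (P : Pairs M Q c v) :
    Function.Bijective (Fintype.linearCombination (ZMod 3) (Sum.elim v fun i => M (v i))) ∧
    ∀ x, Q (Fintype.linearCombination (ZMod 3) (Sum.elim v fun i => M (v i)) x) = c * ∑ s, x s * x s ∧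
      ∀ s, Q3.B Q (Sum.elim v (fun i => M (v i)) s)
        (Fintype.linearCombination (ZMod 3) (Sum.elim v fun i => M (v i)) x) = 2 * c * x s := by
  set e := Sum.elim v fun i => M (v i) with he
  set ψ := Fintype.linearCombination (ZMod 3) e
  have hB : ∀ x s, Q3.B Q (e s) (ψ x) = 2 * c * x s := fun x s => by
    show QuadraticMap.polarBilin Q (e s) (ψ x) = _
    simp only [ψ, Fintype.linearCombination_apply, map_sum, map_smul, QuadraticMap.polarBilin_apply_apply, he,
      Pairs.gram S P, smul_eq_mul, mul_ite, mul_zero, Finset.sum_ite_eq, Finset.mem_univ, if_true]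
    ring
  have hinj : Function.Injective ψ := LinearMap.ker_eq_bot.mp <| LinearMap.ker_eq_bot'.mpr fun x hx => funext fun s => by
    have h := hB x s
    rw [hx, Q3.B_zero_right] at h
    exact (mul_eq_zero.mp h.symm).resolve_left (mul_ne_zero (by decide) hc)
  refine ⟨⟨hinj, (LinearMap.injective_iff_surjective_of_finrank_eq_finrank (by simp)).mp hinj⟩,
    fun x => ⟨?_, hB x⟩⟩
  have h : Q3.B Q (ψ x) (ψ x) = ∑ s, x s * (2 * c * x s) := by
    conv_lhs => enter [2]; rw [Fintype.linearCombination_apply]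
    show QuadraticMap.polarBilin Q (∑ s, x s • e s) (ψ x) = _
    simp only [map_sum, map_smul, LinearMap.sum_apply, LinearMap.smul_apply, QuadraticMap.polarBilin_apply_apply,
      smul_eq_mul, hB]
  rw [Q3.B_self, Finset.sum_congr rfl fun s _ => show x s * (2 * c * x s) = 2 * (c * (x s * x s)) by ring,
    ← Finset.mul_sum, ← Finset.mul_sum] at h
  exact mul_left_cancel₀ (by decide) h

/-- Two hyperbolic planes as four squares. -/
def blk (a b c d : ZMod 3) : Fin 4 → ZMod 3 := ![a + b + c, a + b + d, a + 2 * c + 2 * d, b + 2 * c + 2 * d]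

/-- The hyperbolic space as a sum of eight squares. -/
def plusToSquares : (Fin 4 ⊕ Fin 4 → ZMod 3) →ₗ[ZMod 3] (Fin 4 ⊕ Fin 4 → ZMod 3) where
  toFun x := Sum.elim (blk (x (.inl 0)) (x (.inr 0)) (x (.inl 1)) (x (.inr 1)))
    (blk (x (.inl 2)) (x (.inr 2)) (x (.inl 3)) (x (.inr 3)))
  map_add' x y := by
    funext s; rcases s with i | i <;> fin_cases i <;> simp [blk] <;> ring
  map_smul' t x := by
    funext s; rcases s with i | i <;> fin_cases i <;> simp [blk] <;> ring

theorem refl_iso (hc : c ≠ 0) (S : RSw Q M) (P : Pairs M Q c v) :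
    Nonempty (↥(isometryGroup (ZMod 3) ⇑(Classical.qfPlus 4 (ZMod 3))) ≃* ↥(isometryGroup (ZMod 3) ⇑Q)) := by
  obtain ⟨hbij, hco⟩ := P.coords hc S
  have key : ∀ a b c d : ZMod 3, (∑ i, blk a b c d i * blk a b c d i) = a * b + c * d := by decide
  have inj : ∀ a b c d : ZMod 3, blk a b c d = 0 → a = 0 ∧ b = 0 ∧ c = 0 ∧ d = 0 := by decide
  have hT : Function.Injective plusToSquares := LinearMap.ker_eq_bot.mp <| LinearMap.ker_eq_bot'.mpr fun x hx => by
    obtain ⟨a1, a2, a3, a4⟩ := inj _ _ _ _ (funext fun i => congrFun hx (.inl i))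
    obtain ⟨b1, b2, b3, b4⟩ := inj _ _ _ _ (funext fun i => congrFun hx (.inr i))
    funext s
    rcases s with i | i <;> fin_cases i <;> assumption
  let φ : (Fin 4 ⊕ Fin 4 → ZMod 3) ≃ₗ[ZMod 3] Q3.V 8 :=
    (LinearEquiv.ofBijective plusToSquares ⟨hT, LinearMap.injective_iff_surjective.mp hT⟩).trans
      (LinearEquiv.ofBijective _ hbij)
  obtain ⟨D⟩ := Classical.OrthAut.nonempty_isoData (Q := Classical.qfPlus 4 (ZMod 3)) (Q' := c • Q) (e := φ) fun x => by
    rw [QuadraticMap.smul_apply, smul_eq_mul]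
    show c * Q (Fintype.linearCombination (ZMod 3) _ (plusToSquares x)) = _
    rw [(hco _).1, ← mul_assoc, sq_one hc, one_mul, Classical.qfPlus_apply, quadFormPlus, Fintype.sum_sum_type,
      Fin.sum_univ_four (fun i => x (.inl i) * x (.inr i))]
    show (∑ i, blk _ _ _ _ i * blk _ _ _ _ i) + (∑ i, blk _ _ _ _ i * blk _ _ _ _ i) = _
    rw [key, key]
    ring
  exact ⟨D.og.trans (MulEquiv.subgroupCongr (Classical.PrimeGraphBC.isometryGroup_smul hc Q))⟩

/-- The allowed coordinates of the next image. -/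
def cand (k : ℕ) : Finset (Fin 4 ⊕ Fin 4 → ZMod 3) :=
  Finset.univ.filter fun x => (∑ s, x s * x s) = 1 ∧ (∀ i : Fin 4, (i : ℕ) ≤ k → x (.inl i) = 0) ∧
    ∀ i : Fin 4, (i : ℕ) < k → x (.inr i) = 0

theorem cand_card : (cand 1).card = 90 ∧ (cand 2).card = 6 ∧ (cand 3).card = 2 := by decide +kernel

theorem rsw_bound (hc : c ≠ 0) (hQ : (QuadraticMap.polarBilin Q).Nondegenerate) (j : ℕ) :
    ∀ {k : ℕ}, k + j = 4 → 1 ≤ k → ∀ (v : Fin k → Q3.V 8) (T : Finset (Q3.V 8 →ₗ[ZMod 3] Q3.V 8)),
      (∀ M ∈ T, RSw Q M) → (∀ M ∈ T, Pairs M Q c v) → (∀ M ∈ T, ∀ M' ∈ T, ∀ i, M (v i) = M' (v i)) →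
        T.card ≤ [1, 2, 12, 1080].getD j 0 := by
  classical
  induction j with
  | zero =>
    intro k hk _ v T hS hP hag
    obtain rfl : k = 4 := by omega
    refine Finset.card_le_one.mpr fun M hM M' hM' => ?_
    obtain ⟨⟨-, hsurj⟩, -⟩ := (hP M hM).coords hc (hS M hM)
    refine LinearMap.ext fun z => ?_
    obtain ⟨x, rfl⟩ := hsurj z
    simp only [Fintype.linearCombination_apply, map_sum, map_smul]
    refine Finset.sum_congr rfl fun s _ => ?_
    congr 1
    rcases s with i | i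
    · exact hag M hM M' hM' i
    · show M (M (v i)) = M' (M (v i))
      rw [(hS M hM).neg, hag M hM M' hM' i, (hS M' hM').neg]
  | succ j ih =>
    intro k hk hk1 v T hS hP hag
    by_cases hT : T = ∅
    · subst hT; simp
    obtain ⟨M0, hM0⟩ := Finset.nonempty_iff_ne_empty.mpr hT
    obtain ⟨u, hu, h1, h2⟩ := (hP M0 hM0).extend hc hQ (hS M0 hM0) (by omega)
    obtain ⟨v', P', hv'⟩ := ((hP M0 hM0).snoc (hS M0 hM0) hu h1 h2).complete hc hQ hQ (hS M0 hM0) j (by omega)
    obtain ⟨⟨-, hsurj⟩, hco⟩ := P'.coords hc (hS M0 hM0)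
    have him : (T.image fun M => M u).card ≤ (cand k).card := by
      refine le_trans ?_ (Finset.card_image_le (s := cand k)
        (f := fun x => Fintype.linearCombination (ZMod 3) (Sum.elim v' fun i => M0 (v' i)) x))
      refine Finset.card_le_card fun t ht => ?_
      obtain ⟨M, hM, rfl⟩ := Finset.mem_image.mp ht
      obtain ⟨x, hx⟩ := hsurj (M u)
      refine Finset.mem_image.mpr ⟨x, ?_, hx⟩
      obtain ⟨hq, hb⟩ := hco x
      rw [hx] at hq hb
      rw [(hS M hM).q, hu] at hq
      have hz : ∀ s, Q3.B Q (Sum.elim v' (fun i => M0 (v' i)) s) (M u) = 0 → x s = 0 := fun s h => by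
        rw [hb] at h
        exact (mul_eq_zero.mp h).resolve_left (mul_ne_zero (by decide) hc)
      have hu' : v' ⟨k, by omega⟩ = u := by
        have := hv' (Fin.last k)
        rw [Fin.snoc_last] at this
        exact this
      have hvi : ∀ i : Fin k, v' (Fin.castLE (by omega) i.castSucc) = v i := fun i => by
        rw [hv', Fin.snoc_castSucc]
      have hMv : ∀ i, Q3.B Q (M (v i)) u = 0 := fun i => by rw [hag M hM M0 hM0 i, h2]
      refine Finset.mem_filter.mpr ⟨Finset.mem_univ _, ?_, fun i hi => hz _ ?_, fun i hi => hz _ ?_⟩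
      · have d : ∀ c s : ZMod 3, c ≠ 0 → c = c * s → s = 1 := by decide
        exact d c _ hc hq
      · rcases eq_or_lt_of_le hi with e | e
        · rw [Sum.elim_inl, show i = ⟨k, by omega⟩ from Fin.ext e, hu']
          exact (hS M hM).orth u
        · rw [Sum.elim_inl, show i = Fin.castLE (by omega) (Fin.castSucc (⟨i, e⟩ : Fin k)) from Fin.ext rfl, hvi,
            ← neg_eq_zero, ← (hS M hM).adj]
          exact hMv _
      · rw [Sum.elim_inr, show i = Fin.castLE (by omega) (Fin.castSucc (⟨i, hi⟩ : Fin k)) from Fin.ext rfl, hvi,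
          ← hag M hM M0 hM0, (hS M hM).adj, (hS M hM).neg, Q3.B_neg_right, neg_neg]
        exact h1 _
    have hfib : ∀ t ∈ T.image (fun M => M u), (T.filter fun M => M u = t).card ≤ [1, 2, 12, 1080].getD j 0 := by
      intro t ht
      refine ih (k := k + 1) (by omega) (by omega) (Fin.snoc v u) _ (fun M hM => hS M (Finset.mem_filter.mp hM).1)
        (fun M hM => ?_) fun M hM M' hM' i => ?_
      · have hMT := (Finset.mem_filter.mp hM).1
        exact (hP M hMT).snoc (hS M hMT) hu h1 fun i => by rw [hag M hMT M0 hM0 i, h2]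
      · refine Fin.lastCases ?_ (fun i => ?_) i
        · rw [Fin.snoc_last, (Finset.mem_filter.mp hM).2, (Finset.mem_filter.mp hM').2]
        · rw [Fin.snoc_castSucc]
          exact hag M (Finset.mem_filter.mp hM).1 M' (Finset.mem_filter.mp hM').1 i
    refine (Finset.card_le_mul_card_image T _ hfib).trans ((Nat.mul_le_mul_left _ him).trans ?_)
    obtain ⟨c1, c2, c3⟩ := cand_card
    obtain rfl : k = 3 - j := by omega
    have hj : j ≤ 2 := by omega
    interval_cases j <;> simp [c1, c2, c3]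

theorem refl_count (hc : c ≠ 0) (hQ : (QuadraticMap.polarBilin Q).Nondegenerate) {a b : RGrp Q c}
    (ha : a ∈ rset Q c) (hb : b ∈ rset Q c) (hne : a ≠ b) (hcm : Commute a b) :
    {x | Sw (rset Q c) x ∧ x * a * x = b}.ncard ≤ 1080 := by
  classical
  haveI : Fintype (Q3.V 8 →ₗ[ZMod 3] Q3.V 8) := Fintype.ofInjective _ DFunLike.coe_injective
  obtain ⟨v, hv, rfl⟩ := exists_rp hc ha
  obtain ⟨w, hw, rfl⟩ := exists_rp hc hb
  have hl : ∀ x, Sw (rset Q c) x ∧ x * rp hc hv * x = rp hc hw →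
      ∃ s : ↥(reflectionSubgroup (⇑Q) c), QuotientGroup.mk s = x ∧ (ract s v = w ∨ ract s v = -w) := by
    rintro x ⟨hx, e⟩
    obtain ⟨s, rfl⟩ := QuotientGroup.mk_surjective x
    have hm : Q (ract s v) = c := by rw [ract_q, hv]
    refine ⟨s, rfl, rp_inj hc (by norm_num) hQ hm hw ?_⟩
    rw [← e]
    conv_rhs => arg 2; rw [← inv_eq_of_mul_eq_one_right hx.1]
    exact (congrArg QuotientGroup.mk (rr_conj hc s hv hm)).symm
  let F : RGrp Q c → (Q3.V 8 →ₗ[ZMod 3] Q3.V 8) := fun x =>
    if hx : Sw (rset Q c) x ∧ x * rp hc hv * x = rp hc hw then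
      if ract (hl x hx).choose v = w then ract (hl x hx).choose else -ract (hl x hx).choose
    else 0
  set T : Finset (Q3.V 8 →ₗ[ZMod 3] Q3.V 8) := Finset.univ.filter fun M => RSw Q M ∧ M v = w
  refine le_trans (le_of_le_of_eq (Set.ncard_le_ncard_of_injOn (t := (T : Set _)) F ?_ ?_ (Set.toFinite _))
    (Set.ncard_coe_finset T)) ?_
  · rintro x hx
    obtain ⟨hs, hsv⟩ := (hl x hx).choose_spec
    simp only [F, dif_pos (show Sw (rset Q c) x ∧ x * rp hc hv * x = rp hc hw from hx)]
    set s := (hl x hx).choose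
    obtain ⟨hneg, ho⟩ := sw_lift (by norm_num) hQ hc (hs ▸ hx.1)
    simp only [T, Finset.coe_filter, Finset.mem_univ, true_and]
    split_ifs with h
    · exact ⟨⟨ract_q s, hneg, ho⟩, h⟩
    · exact ⟨⟨fun z => by rw [LinearMap.neg_apply, Q3.q_neg, ract_q],
        fun z => by rw [LinearMap.neg_apply, LinearMap.neg_apply, map_neg, neg_neg, hneg],
        fun z => by rw [LinearMap.neg_apply, Q3.B_neg_right, ho, neg_zero]⟩,
        by rw [LinearMap.neg_apply, hsv.resolve_left h, neg_neg]⟩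
  · intro x hx y hy e
    have hx' : Sw (rset Q c) x ∧ x * rp hc hv * x = rp hc hw := hx
    have hy' : Sw (rset Q c) y ∧ y * rp hc hv * y = rp hc hw := hy
    obtain ⟨hs, -⟩ := (hl x hx').choose_spec
    obtain ⟨ht, -⟩ := (hl y hy').choose_spec
    simp only [F, dif_pos hx', dif_pos hy'] at e
    generalize (hl x hx').choose = s at hs e
    generalize (hl y hy').choose = t at ht e
    rw [← hs, ← ht]
    have hpm : (∀ z, ract s z = ract t z) ∨ ∀ z, ract s z = -ract t z := by
      split_ifs at e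
      · exact Or.inl (LinearMap.congr_fun e)
      · exact Or.inr (LinearMap.congr_fun e)
      · exact Or.inr fun z => neg_eq_iff_eq_neg.mp (LinearMap.congr_fun e z)
      · exact Or.inl fun z => neg_inj.mp (LinearMap.congr_fun e z)
    refine QuotientGroup.eq.mpr (Subgroup.mem_center_iff.mpr fun g => ract_inj fun z => ?_)
    have hz : (∀ z, ract (s⁻¹ * t) z = z) ∨ ∀ z, ract (s⁻¹ * t) z = -z := by
      refine hpm.imp (fun k z => ?_) fun k z => ?_
      · rw [ract_mul, ← k, ← ract_mul, inv_mul_cancel, ract_one]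
      · rw [ract_mul, show ract t z = -ract s z by rw [k, neg_neg], map_neg, ← ract_mul, inv_mul_cancel, ract_one]
    rcases hz with k | k <;> simp only [ract_mul] at k ⊢ <;> simp [k]
  · have hvw : Q3.B Q v w = 0 := by
      obtain ⟨-, hsurj⟩ : True ∧ True := ⟨trivial, trivial⟩
      have e : ract (rr hc hv) w = w - (c * Q3.B Q v w) • v := ract_rr hc hv w
      have hm : Q (ract (rr hc hv) w) = c := by rw [ract_q, hw]
      have k := congrArg (QuotientGroup.mk : _ → RGrp Q c) (rr_conj hc (rr hc hv) hw hm)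
      rw [QuotientGroup.mk_mul, QuotientGroup.mk_mul, QuotientGroup.mk_inv] at k
      change rp hc hv * rp hc hw * (rp hc hv)⁻¹ = rp hc hm at k
      rw [hcm.eq, mul_inv_cancel_right] at k
      by_contra hb0
      have hs : c * Q3.B Q v w ≠ 0 := mul_ne_zero hc hb0
      have hv0 := Q3.ne_zero_of_q Q (hv ▸ hc : Q v ≠ 0)
      rcases rp_inj hc (by norm_num) hQ hw hm k with e1 | e1 <;> rw [e] at e1
      · rcases smul_eq_zero.mp (sub_eq_self.mp e1.symm) with z | z
        exacts [hs z, hv0 z]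
      · refine hne (congrArg QuotientGroup.mk (rr_pm hc hw hv ?_))
        have hwv : w = -((c * Q3.B Q v w) • v) := by
          funext i
          have := congrFun e1 i
          simp only [Pi.neg_apply, Pi.sub_apply, Pi.smul_apply, smul_eq_mul] at this ⊢
          have d : ∀ y t : ZMod 3, y = -(y - t) → y = -t := by decide
          exact d _ _ this
        have d : ∀ t : ZMod 3, t ≠ 0 → t = 1 ∨ t = -1 := by decide
        rcases d _ hs with e2 | e2 <;> rw [e2] at hwv
        · right; rw [hwv, one_smul, neg_neg]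
        · left; rw [hwv, neg_one_smul, neg_neg]
    refine rsw_bound hc hQ 3 (k := 1) rfl le_rfl (fun _ => v) T (fun M hM => (Finset.mem_filter.mp hM).2.1)
      (fun M hM => ⟨fun _ => hv, fun i j h => absurd (Subsingleton.elim i j) h,
        fun _ _ => by rw [(Finset.mem_filter.mp hM).2.2]; exact hvw⟩)
      fun M hM M' hM' _ => by rw [(Finset.mem_filter.mp hM).2.2, (Finset.mem_filter.mp hM').2.2]

theorem refl_card (hc : c ≠ 0) (hQ : (QuadraticMap.polarBilin Q).Nondegenerate) (S : RSw Q M)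
    (P : Pairs M Q c v) : 271 ≤ (rset Q c).ncard := by
  classical
  obtain ⟨hbij, hco⟩ := P.coords hc S
  set ψ := Fintype.linearCombination (ZMod 3) (Sum.elim v fun i => M (v i))
  set A := Finset.univ.filter fun x : Fin 4 ⊕ Fin 4 → ZMod 3 => (∑ s, x s * x s) = 1 ∧ x (.inl 0) = 1
  have hA : 271 ≤ A.card := by decide +kernel
  have hq : ∀ x ∈ A, Q (ψ x) = c := fun x hx => by
    rw [(hco x).1, (Finset.mem_filter.mp hx).2.1, mul_one]
  let f : (Fin 4 ⊕ Fin 4 → ZMod 3) → RGrp Q c := fun x => if hx : Q (ψ x) = c then rp hc hx else 1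
  refine hA.trans ?_
  rw [← Set.ncard_coe_finset]
  refine Set.ncard_le_ncard_of_injOn f (fun x hx => ?_) (fun x hx y hy e => ?_) (Set.toFinite _)
  · simp only [f, dif_pos (hq x hx)]
    exact rp_mem hc _
  · simp only [f, dif_pos (hq x hx), dif_pos (hq y hy)] at e
    rcases rp_inj hc (by norm_num) hQ _ _ e with k | k
    · exact hbij.injective k
    · rw [← map_neg] at k
      have h1 := congrFun (hbij.injective k) (.inl 0)
      rw [Pi.neg_apply, (Finset.mem_filter.mp hx).2.2, (Finset.mem_filter.mp hy).2.2] at h1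
      exact absurd h1 (by decide)

end Cfsg.Agent.Spor.Triality
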