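import Cfsg.Agent.Lib.Spor.Triality.Linear
import Cfsg.Agent.Lib.Spor.Triality.OrthOrbit
import Cfsg.Agent.Lib.Spor.Triality.OrthCount
import Cfsg.Agent.Lib.Spor.Triality.ReflEight
import Cfsg.Agent.Lib.Spor.Triality.Types
import Cfsg.Agent.Lib.Spor.FischerThm.Induct
import Cfsg.Agent.Lib.Classical.OrthSubspaceEmb

/-! The class groups with disconnected commuting graph are the two triality groups. -/

set_option autoImplicit false
set_option linter.style.haveILetI false
set_option linter.unusedSectionVars false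

namespace Cfsg.Agent.Spor.Triality

open Cfsg Cfsg.Agent.Spor Cfsg.Agent.Spor.FischerThm Cfsg.Agent.Block.FischerTypes

/-- The commutator subgroup along an isomorphism. -/
noncomputable def commCongr {A B : Type*} [Group A] [Group B] (e : A ≃* B) :
    ↥(commutator A) ≃* ↥(commutator B) :=
  ((commutator A).equivMapOfInjective e.toMonoidHom e.injective).trans (MulEquiv.subgroupCongr (by
    rw [commutator_def, Subgroup.map_commutator, Subgroup.map_top_of_surjective _ e.surjective, commutator_def]))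

/-- A centre-free derived group of the projective reflection group of the hyperbolic space. -/
theorem refl_commutator {Q : QuadraticForm (ZMod 3) (Q3.V 8)} {c : ZMod 3} (hc : c ≠ 0)
    (hQ : (QuadraticMap.polarBilin Q).Nondegenerate) {L : Type*} [Group L] (hL : Subgroup.center L = ⊥)
    (e : ↥(commutator (RGrp Q c)) ≃* L)
    (φ : ↥(isometryGroup (ZMod 3) ⇑(Classical.qfPlus 4 (ZMod 3))) ≃* ↥(isometryGroup (ZMod 3) ⇑Q)) :
    Nonempty (L ≃* POmega (ZMod 3) (quadFormPlus 4 (ZMod 3))) := by
  set R := reflectionSubgroup (⇑Q) c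
  have hidx := Spor.ReflThree.reflection_index (show 5 ≤ 8 by norm_num) hQ hc
  haveI : R.Normal := Subgroup.normal_of_index_eq_two hidx
  have hΩR : Omega (ZMod 3) ⇑Q ≤ R := by
    haveI : IsCyclic (isometryGroup (ZMod 3) ⇑Q ⧸ R) := isCyclic_of_prime_card (p := 2)
      (show Nat.card _ = 2 from hidx)
    exact Subgroup.Normal.quotient_commutative_iff_commutator_le.mp IsCyclic.isMulCommutative
  have hperf := Classical.OrthSub.omega_perfect hQ (show (2 : ZMod 3) ≠ 0 by decide)
    (by rw [Fintype.card_fin]; norm_num) (Or.inl (by rw [Fintype.card_fin]; norm_num))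
  have hcR : (commutator ↥R).map R.subtype = Omega (ZMod 3) ⇑Q := by
    rw [commutator_def, Subgroup.map_commutator, ← MonoidHom.range_eq_map, Subgroup.range_subtype]
    refine le_antisymm (Subgroup.commutator_mono le_top le_top) ?_
    have h := congrArg (Subgroup.map (Omega (ZMod 3) ⇑Q).subtype) hperf
    rw [commutator_def, Subgroup.map_commutator, ← MonoidHom.range_eq_map, Subgroup.range_subtype] at h
    conv_lhs => rw [← h]
    exact Subgroup.commutator_mono hΩR hΩR
  have hcQ : (commutator ↥R).map (QuotientGroup.mk' (Subgroup.center ↥R)) = commutator (RGrp Q c) := by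
    rw [commutator_def, Subgroup.map_commutator,
      Subgroup.map_top_of_surjective _ (QuotientGroup.mk'_surjective _), commutator_def]
  have hmem : ∀ g : ↥R, g ∈ commutator ↥R ↔ (g : ↥(isometryGroup (ZMod 3) ⇑Q)) ∈ Omega (ZMod 3) ⇑Q := fun g => by
    rw [← hcR]
    exact ⟨fun h => ⟨g, h, rfl⟩, fun ⟨x, hx, e⟩ => R.subtype_injective e ▸ hx⟩
  let ρ0 : ↥(Omega (ZMod 3) ⇑Q) →* RGrp Q c := (QuotientGroup.mk' _).comp (Subgroup.inclusion hΩR)
  let ρ : ↥(Omega (ZMod 3) ⇑Q) →* L := e.toMonoidHom.comp (ρ0.codRestrict (commutator (RGrp Q c)) fun g => by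
    rw [← hcQ]
    exact ⟨Subgroup.inclusion hΩR g, (hmem _).mpr g.2, rfl⟩)
  have hsurj : Function.Surjective ρ := e.surjective.comp fun ⟨q, hq⟩ => by
    rw [← hcQ] at hq
    obtain ⟨g, hg, rfl⟩ := hq
    exact ⟨⟨g, (hmem g).mp hg⟩, rfl⟩
  have hker : ρ.ker = Subgroup.center ↥(Omega (ZMod 3) ⇑Q) := by
    refine le_antisymm (fun g hg => ?_) fun g hg => ?_
    · have h1 : ρ0 g = 1 := congrArg Subtype.val (e.injective (hg.trans e.map_one.symm))
      have hz : Subgroup.inclusion hΩR g ∈ Subgroup.center ↥R := (QuotientGroup.eq_one_iff _).mp h1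
      exact Subgroup.mem_center_iff.mpr fun k => Subtype.ext
        (congrArg Subtype.val (Subgroup.mem_center_iff.mp hz (Subgroup.inclusion hΩR k)) :)
    · have hz : ρ g ∈ Subgroup.center L := Subgroup.mem_center_iff.mpr fun l => by
        obtain ⟨k, rfl⟩ := hsurj l
        rw [← map_mul, ← map_mul, Subgroup.mem_center_iff.mp hg k]
      rwa [hL, Subgroup.mem_bot] at hz
  let e1 : L ≃* POmega (ZMod 3) ⇑Q :=
    ((QuotientGroup.quotientMulEquivOfEq hker.symm).trans (QuotientGroup.quotientKerEquivOfSurjective ρ hsurj)).symm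
  have e2 : POmega (ZMod 3) ⇑Q ≃* POmega (ZMod 3) ⇑(Classical.qfPlus 4 (ZMod 3)) := by
    let f := commCongr φ.symm
    refine QuotientGroup.congr _ _ f (le_antisymm ?_ fun z hz => ⟨f.symm z, ?_, f.apply_symm_apply z⟩)
    · rintro _ ⟨z, hz, rfl⟩
      exact Subgroup.mem_center_iff.mpr fun k => by
        obtain ⟨k, rfl⟩ := f.surjective k
        show f k * f z = f z * f k
        rw [← map_mul, ← map_mul, Subgroup.mem_center_iff.mp hz k]
    · exact Subgroup.mem_center_iff.mpr fun k => f.injective (by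
        rw [map_mul, map_mul, f.apply_symm_apply]; exact Subgroup.mem_center_iff.mp hz (f k))
  rw [← Classical.coe_qfPlus]
  exact ⟨e1.trans e2⟩

universe u

variable {G : Type u} [Group G] [Finite G] {D : Set G} {L : Subgroup G}

theorem center_simple (C : Cfg D L) : Subgroup.center ↥L = ⊥ := by
  refine eq_bot_iff.mpr fun z hz => Subgroup.mem_bot.mpr (Subtype.ext (C.eq_one_of_comm fun l hl => ?_))
  exact congrArg Subtype.val (Subgroup.mem_center_iff.mp hz ⟨l, hl⟩)

theorem classify_cfg (C : Cfg D L) :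
    (∀ [L.Normal], Nonempty (G ⧸ L ≃* Equiv.Perm (Fin 3))) ∧
      (Nonempty (↥L ≃* Omega (ZMod 2) (quadFormPlus 4 (ZMod 2))) ∨
        Nonempty (↥L ≃* POmega (ZMod 3) (quadFormPlus 4 (ZMod 3)))) := by
  obtain ⟨d, hd, -⟩ := C.cls.2.1
  have g := C.good hd
  have typed : (∀ y : ↥(grp D L d), ¬ Sw (clG D L d) y) → False := fun h => by
    obtain ⟨x, hx, -⟩ := (emb_of_equiv (MulEquiv.refl ↥(grp D L d)) (Set.image_id _)).orbit C hd
    exact h x hx
  rcases FischerThm.classify g with h | ⟨n, hn, e, he⟩ | ⟨m, hm, e, he⟩ | ⟨F, iF, iT, h4, n, hn, e, he⟩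
  · rcases h with
      ⟨n, hn, e, he⟩ | ⟨m, hm, e, he⟩ | ⟨m, hm, e, he⟩ | ⟨n, hn, Q, hQ, c, hc, e, he⟩ | h | h | h
    · obtain ⟨x, hx, -⟩ := (emb_of_equiv e he).orbit C hd
      exact absurd hx (sym_no_sw (by omega) x)
    · have M := emb_of_equiv e he
      have hQ := OrthTwo.nondeg_plus m
      obtain ⟨x, hx, ho⟩ := M.orbit C hd
      obtain rfl := orth_dim hQ (by simp only [Fintype.card_sum, Fintype.card_fin]; omega) hm hx ho
      refine ⟨?_, Or.inl ?_⟩
      · refine (M.quot_or_many C hd (orth_unique hQ)).resolve_right fun hmany => ?_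
        obtain ⟨a, ha, b, hb, hab, hcm⟩ := g.pair
        set A := e a
        set B := e b
        have hA : A ∈ OTwo.tset (Classical.qfPlus 4 (ZMod 2)) := he ▸ ⟨a, ha, rfl⟩
        have hB : B ∈ OTwo.tset (Classical.qfPlus 4 (ZMod 2)) := he ▸ ⟨b, hb, rfl⟩
        obtain ⟨v, hv, ev⟩ := OTwo.exists_pt _ hQ hA
        obtain ⟨w, hw, ew⟩ := OTwo.exists_pt _ hQ hB
        have h1 := hmany A hA B hB (e.injective.ne hab) (hcm.map e)
        have h2 := orth_count hQ (by simp) hv hw (fun k => hab (e.injective (ev.trans (by rw [k]; exact ew.symm))))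
        rw [← ev, ← ew] at h2
        have := orth_tset_card
        omega
      · rw [← Classical.coe_qfPlus]
        exact ⟨(C.commEquiv hd).symm.trans (commCongr e)⟩
    · obtain ⟨x, hx, -⟩ := (emb_of_equiv e he).orbit C hd
      exact absurd hx (minus_no_sw m x)
    · have M := emb_of_equiv e he
      obtain rfl := refl_dim hc hn hQ fun k t ht hi hcm => M.clique C hd ht hi hcm
      have hU : UniqueFactor (rset Q c) := (refl_unique (by norm_num) hQ).resolve_right hc
      obtain ⟨x, hx, -⟩ := M.orbit C hd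
      obtain ⟨s, rfl⟩ := QuotientGroup.mk_surjective x
      obtain ⟨hneg, hor⟩ := sw_lift (by norm_num) hQ hc hx
      have S : RSw Q (ract s) := ⟨ract_q s, hneg, hor⟩
      have P0 : Pairs (ract s) Q c (Fin.elim0 : Fin 0 → Q3.V 8) :=
        ⟨fun i => i.elim0, fun i => i.elim0, fun i => i.elim0⟩
      obtain ⟨v, P, -⟩ := P0.complete hc hQ hQ S 4 rfl
      refine ⟨?_, Or.inr ?_⟩
      · refine (M.quot_or_many C hd hU).resolve_right fun hmany => ?_
        obtain ⟨a, ha, b, hb, hab, hcm⟩ := g.pair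
        have hA : e a ∈ rset Q c := he ▸ ⟨a, ha, rfl⟩
        have hB : e b ∈ rset Q c := he ▸ ⟨b, hb, rfl⟩
        have h1 := hmany _ hA _ hB (e.injective.ne hab) (hcm.map e)
        have h2 := refl_count hc hQ hA hB (e.injective.ne hab) (hcm.map e)
        have := refl_card hc hQ S P
        omega
      · obtain ⟨φ⟩ := refl_iso hc S P
        exact refl_commutator hc hQ (center_simple C) ((commCongr e).symm.trans (C.commEquiv hd)) φ
    · exact (typed (m22_no_sw (good_group g) g.primitive h)).elim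
    · exact (typed (m23_no_sw (good_group g) g.primitive h)).elim
    · exact (typed (m24_no_sw (good_group g) g.primitive h)).elim
  · obtain ⟨x, hx, -⟩ := (emb_of_equiv e he).orbit C hd
    exact absurd hx (sym_no_sw (by omega) x)
  · obtain ⟨x, hx, -⟩ := (emb_of_equiv e he).orbit C hd
    exact absurd hx (sp_no_sw (by omega) x)
  · obtain ⟨x, hx, -⟩ := (emb_of_equiv e he).orbit C hd
    exact absurd hx (psu_no_sw h4 (by omega) x)

end Cfsg.Agent.Spor.Triality
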