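import Cfsg.Agent.Lib.Spor.FischerPrimitive
import Cfsg.Agent.Lib.Spor.FischerThm.Width

/-! Classes of 3-transpositions with disconnected commuting graph: the cosets of the simple normal subgroup. -/

set_option autoImplicit false
set_option linter.style.haveILetI false
set_option linter.unusedSectionVars false

namespace Cfsg.Agent.Spor.Triality

open Cfsg Cfsg.Agent.Spor
open scoped commutatorElement

universe u

variable {G : Type u} [Group G] [Finite G] {D : Set G} {L : Subgroup G}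

/-- The members congruent to `d`. -/
def cl (D : Set G) (L : Subgroup G) (d : G) : Set G := {x | x ∈ D ∧ d * x ∈ L}

/-- The subgroup they generate. -/
def grp (D : Set G) (L : Subgroup G) (d : G) : Subgroup G := Subgroup.closure (cl D L d)

/-- The standing facts. -/
structure Cfg (D : Set G) (L : Subgroup G) : Prop where
  cls : IsThreeTranspositionClass D
  nrm : L.Normal
  qs : IsQuasisimple L
  simple : IsSimpleGroup L
  cent : Subgroup.centralizer (L : Set G) = ⊥
  width : ∀ a ∈ D, ∀ b ∈ D, Commute a b → a * b ∈ L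
  out : ∀ d ∈ D, d ∉ L
  many : ∀ d ∈ D, ∃ e ∈ D, d * e ∉ L
  pair : ∃ a ∈ D, ∃ b ∈ D, a ≠ b ∧ Commute a b

theorem exists_cfg (hD : IsThreeTranspositionClass D) (hZ : Subgroup.center G = ⊥) (h2 : pCore 2 G = ⊥)
    (h3 : pCore 3 G = ⊥) (hdisc : ¬ (commutingGraph D).Connected) :
    ∃ L : Subgroup G, Cfg D L ∧ generalizedFittingSubgroup G = L := by
  obtain ⟨a, ha, -⟩ := hD.2.1
  have hD2 : ∃ a ∈ D, ∃ b ∈ D, a ≠ b := by
    obtain ⟨x, hx, y, hy, hxy⟩ := FischerThm.not_all_comm hD hZ
    exact ⟨x, hx, y, hy, fun e => hxy (e ▸ Commute.refl x)⟩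
  have hpair : ∃ a ∈ D, ∃ b ∈ D, a ≠ b ∧ Commute a b := by
    by_contra hno
    push Not at hno
    obtain ⟨x, hx, y, hy, hxy⟩ := hD2
    have h := FourGen.mul_mem_pCore D (fun x hx => ThreeTrans.mul_self hD.1 hx)
      (fun g x hx => FischerStr.conj_mem hD g hx) (fun p hp q hq => ?_) hx hy
    · rw [h3, Subgroup.mem_bot] at h
      exact hxy ((eq_inv_of_mul_eq_one_left h).trans (ThreeTrans.inv_eq hD.1 hy))
    · by_cases e : p = q
      · rw [e, ThreeTrans.mul_self hD.1 hq, one_pow]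
      · exact (hD.1.2 p hp q hq).resolve_left fun k => hno p hp q hq e (FischerStr.commute_of_sq hD.1 hp hq k)
  have h2' : pCore 2 G ≤ Subgroup.center G := by rw [h2]; exact bot_le
  have h3' : pCore 3 G ≤ Subgroup.center G := by rw [h3]; exact bot_le
  obtain ⟨L, hn, hL, hF⟩ := FischerStr.layer_quasisimple hD hD2 h2' h3'
  haveI := hn
  rw [hZ, sup_bot_eq] at hF
  have hcent : Subgroup.centralizer (L : Set G) = ⊥ := by
    have h := (Grp.centralizer_gfitting_le_fitting (G := G)).trans (FischerStr.fitting_le_center hD h2' h3')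
    rwa [hF, hZ, le_bot_iff] at h
  have hc : Subgroup.center L = ⊥ := by
    refine eq_bot_iff.mpr fun z hz => Subgroup.mem_bot.mpr (Subtype.ext ?_)
    have : (z : G) ∈ Subgroup.centralizer (L : Set G) := Subgroup.mem_centralizer_iff.mpr fun l hl =>
      congrArg Subtype.val (Subgroup.mem_center_iff.mp hz ⟨l, hl⟩)
    rwa [hcent, Subgroup.mem_bot] at this
  have hs : IsSimpleGroup L :=
    MulEquiv.isSimpleGroup_congr ((QuotientGroup.quotientMulEquivOfEq hc).trans QuotientGroup.quotientBot) |>.mp hL.2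
  have hmany : ∀ d ∈ D, ∃ e ∈ D, d * e ∉ L := by
    intro d hd
    by_contra hno
    push Not at hno
    have hi := FischerStr.index_le_two hD L hd fun e he => by rw [ThreeTrans.inv_eq hD.1 hd]; exact hno e he
    exact hdisc (FischerStr.connected_of_prim hD (FischerStr.primitive_of_index hD hD2 h2' h3' hL hi) hpair)
  refine ⟨L, ⟨hD, hn, hL, hs, hcent, fun p hp q hq hc => ?_, fun d hd hdL => ?_, hmany, hpair⟩, hF⟩
  · have := FischerStr.width_one hD hL hp hq (by rw [hc.eq, mul_inv_cancel_right, mul_inv_cancel]; exact one_mem L)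
    rwa [ThreeTrans.inv_eq hD.1 hp] at this
  · obtain ⟨e, he, hde⟩ := hmany d hd
    obtain ⟨g, rfl⟩ := FischerStr.exists_conj hD hd he
    exact hde (mul_mem hdL (hn.conj_mem d hdL g))

variable (C : Cfg D L)
include C

theorem Cfg.sq {x : G} (hx : x ∈ D) : x * x = 1 := ThreeTrans.mul_self C.cls.1 hx

theorem Cfg.cancel {x : G} (hx : x ∈ D) (y : G) : x * (x * y) = y := by rw [← mul_assoc, C.sq hx, one_mul]

theorem Cfg.inv {x : G} (hx : x ∈ D) : x⁻¹ = x := ThreeTrans.inv_eq C.cls.1 hx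

theorem Cfg.apart {x y : G} (hx : x ∈ D) (hy : y ∈ D) (h : x * y ∉ L) : ¬ Commute x y :=
  fun k => h (C.width x hx y hy k)

theorem Cfg.self_cl {d : G} (hd : d ∈ D) : d ∈ cl D L d := ⟨hd, by rw [C.sq hd]; exact one_mem L⟩

theorem Cfg.swap {x y : G} (hx : x ∈ D) (hy : y ∈ D) (h : x * y ∈ L) : y * x ∈ L := by
  have := inv_mem h
  rwa [mul_inv_rev, C.inv hx, C.inv hy] at this

theorem Cfg.trans {x y z : G} (hy : y ∈ D) (h1 : x * y ∈ L) (h2 : y * z ∈ L) : x * z ∈ L := by
  have := mul_mem h1 h2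
  rwa [mul_assoc, C.cancel hy] at this

theorem Cfg.mem_of_mem {d x y : G} (hd : d ∈ D) (hx : x ∈ cl D L d) (hy : y ∈ cl D L d) : x * y ∈ L :=
  C.trans hd (C.swap hd hx.1 hx.2) hy.2

theorem Cfg.out_cl {d x e : G} (hd : d ∈ D) (hx : x ∈ cl D L d) (he : d * e ∉ L) : x * e ∉ L :=
  fun k => he (C.trans hx.1 hx.2 k)

theorem Cfg.cl_conj (g d : G) :
    cl D L (g * d * g⁻¹) = MulAut.conj g '' cl D L d := by
  haveI := C.nrm
  ext x
  constructor
  · rintro ⟨hx, hm⟩
    refine ⟨g⁻¹ * x * g⁻¹⁻¹, ⟨FischerStr.conj_mem C.cls g⁻¹ hx, ?_⟩, by simp [MulAut.conj_apply, mul_assoc]⟩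
    have := C.nrm.conj_mem _ hm g⁻¹
    simpa [mul_assoc] using this
  · rintro ⟨y, ⟨hy, hm⟩, rfl⟩
    refine ⟨FischerStr.conj_mem C.cls g hy, ?_⟩
    have := C.nrm.conj_mem _ hm g
    simpa [MulAut.conj_apply, mul_assoc] using this

theorem Cfg.mem_grp {d g : G} (hd : d ∈ D) (hg : g ∈ grp D L d) : g ∈ L ∨ g * d ∈ L := by
  haveI := C.nrm
  have step : ∀ x ∈ cl D L d, ∀ y, y ∈ L ∨ y * d ∈ L → x * y ∈ L ∨ x * y * d ∈ L := by
    intro x hx y hy
    have hxd : x * d ∈ L := C.swap hd hx.1 hx.2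
    rcases hy with k | k
    · refine Or.inr ?_
      rw [show x * y * d = (x * d) * (d⁻¹ * y * d⁻¹⁻¹) by group]
      exact mul_mem hxd (C.nrm.conj_mem y k d⁻¹)
    · refine Or.inl ?_
      rw [show x * y = (x * d) * (d⁻¹ * (y * d) * d⁻¹⁻¹) * (d * d)⁻¹ by group, C.sq hd, inv_one, mul_one]
      exact mul_mem hxd (C.nrm.conj_mem _ k d⁻¹)
  induction hg using Subgroup.closure_induction_left with
  | one => exact Or.inl (one_mem L)
  | mul_left x hx y _ ih => exact step x hx y ih
  | inv_mul_cancel x hx y _ ih => rw [C.inv hx.1]; exact step x hx y ih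

/-- The commutators of `d` with `L` generate `L`. -/
theorem Cfg.comm_gen {d : G} (hd : d ∈ D) :
    Subgroup.closure ((fun x => x * d * x⁻¹ * d) '' (L : Set G)) = L := by
  haveI := C.nrm
  have hTL : Subgroup.closure ((fun x => x * d * x⁻¹ * d) '' (L : Set G)) ≤ L := (Subgroup.closure_le _).mpr (by
    rintro _ ⟨x, hx, rfl⟩; exact FischerStr.conj_mul_mem C.cls.1 L hd hx)
  refine (FischerStr.le_center_or_top C.qs hTL (FischerStr.normalizes_closure C.cls.1 hd)).resolve_right fun e => ?_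
  exact FischerStr.not_centralised C.cls C.qs hd (FischerStr.commute_of_central C.cls.1
    (FischerStr.perfect_of_quasisimple C.qs) hd (fun x hx => C.nrm.conj_mem x hx d)
    (Subgroup.le_centralizer_iff.mp e) fun x hx => Subgroup.subset_closure ⟨x, hx, rfl⟩)

theorem Cfg.conj_cl {d l : G} (hd : d ∈ D) (hl : l ∈ L) : l * d * l⁻¹ ∈ cl D L d := by
  haveI := C.nrm
  exact ⟨FischerStr.conj_mem C.cls l hd, FischerStr.mul_conj_mem C.cls.1 L hd hl⟩

theorem Cfg.L_le_grp {d : G} (hd : d ∈ D) : L ≤ grp D L d := by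
  conv_lhs => rw [← C.comm_gen hd]
  rw [Subgroup.closure_le]
  rintro _ ⟨x, hx, rfl⟩
  exact mul_mem (Subgroup.subset_closure (C.conj_cl hd hx)) (Subgroup.subset_closure (C.self_cl hd))

theorem Cfg.eq_one_of_comm {z : G} (h : ∀ l ∈ L, Commute l z) : z = 1 := by
  have : z ∈ Subgroup.centralizer (L : Set G) := Subgroup.mem_centralizer_iff.mpr fun l hl => (h l hl).eq
  rwa [C.cent, Subgroup.mem_bot] at this

theorem Cfg.cl_trans {d x : G} (hd : d ∈ D) (hx : x ∈ cl D L d) :
    ∃ g ∈ grp D L d, g * d * g⁻¹ = x := by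
  haveI := C.nrm
  obtain ⟨l, hl, hnc⟩ : ∃ l ∈ L, ¬ Commute x (l * d * l⁻¹) := by
    by_contra hno
    push Not at hno
    refine ThreeTrans.ne_one C.cls.1 hx.1 (C.eq_one_of_comm fun l hl => ?_)
    rw [← C.comm_gen hd] at hl
    have hle : Subgroup.closure ((fun x => x * d * x⁻¹ * d) '' (L : Set G)) ≤ Subgroup.centralizer {x} :=
      (Subgroup.closure_le _).mpr (by
        rintro _ ⟨m, hm, rfl⟩
        refine Subgroup.mem_centralizer_singleton_iff.mpr (((hno m hm).mul_right ?_).eq.symm)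
        simpa using hno 1 (one_mem L))
    exact Subgroup.mem_centralizer_singleton_iff.mp (hle hl)
  set a := l * d * l⁻¹ with ha
  have haD : a ∈ D := FischerStr.conj_mem C.cls l hd
  refine ⟨a * x * l, mul_mem (mul_mem (Subgroup.subset_closure (C.conj_cl hd hl)) (Subgroup.subset_closure hx))
    (C.L_le_grp hd hl), ?_⟩
  calc a * x * l * d * (a * x * l)⁻¹ = a * x * a * (x⁻¹ * a⁻¹) := by rw [ha]; group
    _ = x * a * x * (x * a) := by
        rw [C.inv hx.1, C.inv haD, ThreeTrans.braid C.cls.1 hx.1 haD hnc]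
    _ = x := by simp only [mul_assoc, C.cancel hx.1, C.sq haD, mul_one]

/-- The class of one coset, inside the group it generates. -/
def clG (D : Set G) (L : Subgroup G) (d : G) : Set ↥(grp D L d) := {x | (x : G) ∈ cl D L d}

theorem Cfg.comm_grp {d : G} (hd : d ∈ D) :
    (commutator ↥(grp D L d)).map (grp D L d).subtype = L := by
  haveI := C.nrm
  rw [commutator_def, Subgroup.map_commutator, ← MonoidHom.range_eq_map, Subgroup.range_subtype]
  refine le_antisymm (Subgroup.commutator_le.mpr fun g hg h hh => ?_) ?_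
  · rw [← QuotientGroup.eq_one_iff]
    show (QuotientGroup.mk' L) ⁅g, h⁆ = 1
    rw [map_commutatorElement, commutatorElement_eq_one_iff_mul_comm]
    have k : ∀ v ∈ grp D L d, QuotientGroup.mk' L v = 1 ∨ QuotientGroup.mk' L v = QuotientGroup.mk' L d := by
      intro v hv
      refine (C.mem_grp hd hv).imp (fun k => (QuotientGroup.eq_one_iff v).mpr k) fun k => ?_
      have e : QuotientGroup.mk' L v * QuotientGroup.mk' L d = 1 := by
        rw [← map_mul]; exact (QuotientGroup.eq_one_iff _).mpr k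
      rw [eq_inv_of_mul_eq_one_left e, ← map_inv, C.inv hd]
    rcases k g hg with e | e <;> rcases k h hh with e' | e' <;> simp [e, e']
  · conv_lhs => rw [← FischerStr.perfect_of_quasisimple C.qs]
    exact Subgroup.commutator_mono (C.L_le_grp hd) (C.L_le_grp hd)

/-- The commutator subgroup of the group of a coset. -/
noncomputable def Cfg.commEquiv {d : G} (hd : d ∈ D) : ↥(commutator ↥(grp D L d)) ≃* ↥L :=
  ((commutator ↥(grp D L d)).equivMapOfInjective _ (grp D L d).subtype_injective).trans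
    (MulEquiv.subgroupCongr (C.comm_grp hd))

theorem Cfg.good {d : G} (hd : d ∈ D) : FischerThm.Good (clG D L d) := by
  haveI := C.nrm
  have hcl : IsThreeTranspositionClass (clG D L d) := by
    refine ⟨⟨fun x hx => ?_, fun x hx y hy => ?_⟩, ⟨⟨d, Subgroup.subset_closure (C.self_cl hd)⟩,
      C.self_cl hd, Set.ext fun x => ⟨fun hx => ?_, fun hx => ?_⟩⟩, Subgroup.closure_closure_coe_preimage⟩
    · rw [← Subgroup.orderOf_coe]; exact C.cls.1.1 _ hx.1
    · rcases C.cls.1.2 _ hx.1 _ hy.1 with e | e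
      · exact Or.inl (Subtype.ext (by simpa using e))
      · exact Or.inr (Subtype.ext (by simpa using e))
    · obtain ⟨g, hg, e⟩ := C.cl_trans hd hx
      exact isConj_iff.mpr ⟨⟨g, hg⟩, Subtype.ext e⟩
    · obtain ⟨g, rfl⟩ := isConj_iff.mp hx
      show (g : G) * d * (g : G)⁻¹ ∈ cl D L d
      refine ⟨FischerStr.conj_mem C.cls _ hd, ?_⟩
      rcases C.mem_grp hd g.2 with k | k
      · exact FischerStr.mul_conj_mem C.cls.1 L hd k
      · rw [show (g : G) * d * (g : G)⁻¹ = (g * d) * d * (g * d)⁻¹ by group]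
        exact FischerStr.mul_conj_mem C.cls.1 L hd k
  haveI := C.simple
  haveI : Nontrivial ↥(commutator ↥(grp D L d)) := (C.commEquiv hd).toEquiv.nontrivial
  refine FischerThm.good_of_simple hcl (eq_bot_iff.mpr fun z hz => Subgroup.mem_bot.mpr (Subtype.ext
    (C.eq_one_of_comm fun l hl => ?_)))
    (IsSimpleGroup.isSimpleGroup_of_surjective (C.commEquiv hd).symm.toMonoidHom (C.commEquiv hd).symm.surjective) ?_
  · exact congrArg Subtype.val (Subgroup.mem_center_iff.mp hz ⟨l, C.L_le_grp hd hl⟩)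
  · obtain ⟨a, ha, b, hb, hab, hc⟩ := C.pair
    obtain ⟨g, hg⟩ := FischerStr.exists_conj C.cls ha hd
    have hc' : Commute d (g * b * g⁻¹) := by
      rw [← hg]
      simpa [MulAut.conj_apply] using hc.map (MulAut.conj g)
    have hm : g * b * g⁻¹ ∈ cl D L d := ⟨FischerStr.conj_mem C.cls g hb,
      C.width d hd _ (FischerStr.conj_mem C.cls g hb) hc'⟩
    exact ⟨⟨d, Subgroup.subset_closure (C.self_cl hd)⟩, C.self_cl hd, ⟨_, Subgroup.subset_closure hm⟩, hm,
      fun e => hab (by
        have e' : d = g * b * g⁻¹ := congrArg Subtype.val e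
        rw [← hg] at e'
        exact mul_left_cancel (mul_right_cancel e')),
      Subtype.ext hc'⟩

end Cfsg.Agent.Spor.Triality
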