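import Cfsg.Agent.Lib.Spor.Triality.Switch
import Cfsg.Agent.Lib.Spor.FischerThm.SpModel
import Cfsg.Agent.Lib.Block.FischerTypes.U6Class

/-! No switch in the symmetric, symplectic and unitary classes. -/

set_option autoImplicit false
set_option linter.style.haveILetI false
set_option linter.unusedSectionVars false

namespace Cfsg.Agent.Spor.Triality

open Cfsg Matrix Cfsg.Agent.Spor Cfsg.Agent.Classical

theorem commute_of_conj {X : Type*} [Group X] {e x : X} (h : x * e * x⁻¹ = e) : Commute e x :=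
  (mul_inv_eq_iff_eq_mul.mp h).symm

theorem sym_no_sw {n : ℕ} (hn : 2 ≤ n) (x : Equiv.Perm (Fin n)) :
    ¬ Sw {σ : Equiv.Perm (Fin n) | σ.IsSwap} x := by
  rintro ⟨h2, h⟩
  by_cases h1 : x = 1
  · have hne : (⟨0, by omega⟩ : Fin n) ≠ ⟨1, by omega⟩ := by simp [Fin.ext_iff]
    exact (h _ ⟨_, _, hne, rfl⟩).1 (h1 ▸ Commute.one_right _)
  obtain ⟨a, ha⟩ : ∃ a, x a ≠ a := by
    by_contra hno
    push Not at hno
    exact h1 (Equiv.ext fun a => hno a)
  have hxx : x (x a) = a := by rw [← Equiv.Perm.mul_apply, h2, Equiv.Perm.one_apply]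
  refine (h _ ⟨a, x a, Ne.symm ha, rfl⟩).1 (commute_of_conj ?_)
  rw [← Equiv.swap_apply_apply, hxx, Equiv.swap_comm]

theorem sp_no_sw {m : ℕ} (hm : 1 ≤ m) (x : Matrix.symplecticGroup (Fin m) (ZMod 2)) :
    ¬ Sw (FischerThm.tvSet m) x := by
  rintro ⟨h2, h⟩
  set M := (x : Matrix (Fin m ⊕ Fin m) (Fin m ⊕ Fin m) (ZMod 2)) with hM
  have hMM : ∀ w, M *ᵥ (M *ᵥ w) = w := fun w => by
    rw [Matrix.mulVec_mulVec]
    have e : M * M = 1 := congrArg Subtype.val h2
    rw [e, Matrix.one_mulVec]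
  obtain ⟨v, hv, hMv⟩ : ∃ v, v ≠ 0 ∧ M *ᵥ v = v := by
    by_cases hall : ∀ w, M *ᵥ w = w
    · refine ⟨fun _ => 1, fun e => ?_, hall _⟩
      exact absurd (congrFun e (.inl ⟨0, hm⟩)) one_ne_zero
    push Not at hall
    obtain ⟨w, hw⟩ := hall
    refine ⟨M *ᵥ w + w, fun e => hw ?_, by rw [Matrix.mulVec_add, hMM, add_comm]⟩
    funext s
    have := congrFun e s
    simp only [Pi.add_apply, Pi.zero_apply] at this
    rw [eq_neg_of_add_eq_zero_left this, SympTwo.self_neg_two]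
  refine (h _ ⟨v, hv, rfl⟩).1 (commute_of_conj ?_)
  rw [SympTwo.tv, sympTv_conj, ← hM, hMv]

section Unit

open Cfsg.Agent.Classical.PSUAut Cfsg.Agent.Block.FischerTypes

variable {F : Type} [Field F] [Fintype F] {n : ℕ} (h4 : Fintype.card F = 4)

local notation "hh" => hermForm n F 2
local notation "hF" => UnitTwo.card_sq h4

include h4

theorem psu_no_sw (hn : 2 ≤ n) (y : PSU n F 2) : ¬ Sw (U6.roots h4 n) y := by
  rintro ⟨h2, h⟩
  obtain ⟨s, rfl⟩ := QuotientGroup.mk_surjective y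
  have hz : s * s ∈ Subgroup.center (SU n F 2) :=
    (QuotientGroup.eq_one_iff _).mp (by rw [QuotientGroup.mk_mul]; exact h2)
  obtain ⟨c, hc'⟩ := suVal_scalar_of_mem_center hF hz
  have hc : ∀ x, suVal (s * s) *ᵥ x = c • x := fun x => by
    rw [hc']; ext j; simp [Matrix.mulVec_diagonal]
  have hss : ∀ v, suVal s *ᵥ (suVal s *ᵥ v) = c • v := fun v => by
    rw [Matrix.mulVec_mulVec, ← suVal_mul, hc]
  obtain ⟨v₀, hv₀, -⟩ := exists_isotropic hF hn
  have hc0 : c ≠ 0 := fun e => hv₀ (by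
    have h1 : suVal (s * s)⁻¹ *ᵥ (suVal (s * s) *ᵥ v₀) = v₀ := by
      rw [Matrix.mulVec_mulVec, suVal_inv_mul, Matrix.one_mulVec]
    rw [hc, e, zero_smul, Matrix.mulVec_zero] at h1
    exact h1.symm)
  have hc3 : c * c * c = 1 := by
    have := FiniteField.pow_card_sub_one_eq_one c hc0
    rw [h4] at this
    rw [← this]; ring
  let T : (Fin n → F) → (Fin n → F) := fun v => c • (suVal s *ᵥ v)
  have hTT : ∀ v, T (T v) = v := fun v => by
    simp only [T, Matrix.mulVec_smul, hss, smul_smul, ← mul_assoc, hc3, one_smul]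
  have hTh : ∀ u v, hh (T u) (T v) = hh u v := fun u v => by
    simp only [T, h_smul_left, h_smul_right hF, su_form]
    rw [← mul_assoc, mul_comm (qFrob hF c) c, UnitTwo.norm_one h4 hc0, one_mul]
  have hadd : ∀ u v, T (u + v) = T u + T v := fun u v => by simp [T, Matrix.mulVec_add]
  obtain ⟨v, hv, hvv, hTv⟩ : ∃ v, v ≠ 0 ∧ hh v v = 0 ∧ T v = v := by
    by_cases hall : ∀ w, T w = w
    · obtain ⟨v, hv, hvv⟩ := exists_isotropic hF hn
      exact ⟨v, hv, hvv, hall v⟩
    push Not at hall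
    obtain ⟨w, hw⟩ := hall
    refine ⟨T w + w, fun e => hw ?_, ?_, by rw [hadd, hTT, add_comm]⟩
    · funext i
      have := congrFun e i
      simp only [Pi.add_apply, Pi.zero_apply] at this
      rw [eq_neg_of_add_eq_zero_left this, UnitTwo.neg_eq h4]
    · have e : hh w (T w) = hh (T w) w := by rw [← hTh w (T w), hTT]
      rw [h_add_left, h_add_right hF, h_add_right hF, hTh, e,
        show hh w w + hh (T w) w + (hh (T w) w + hh w w) =
          (hh w w + hh w w) + (hh (T w) w + hh (T w) w) by ring,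
        UnitTwo.add_self h4, UnitTwo.add_self h4, add_zero]
  have hsv : suVal s *ᵥ v = (c * c) • v := by
    conv_rhs => rw [← hTv]
    rw [smul_smul, hc3, one_smul]
  refine (h (U6.root h4 hvv) ⟨v, hv, hvv, rfl⟩).1 (commute_of_conj ?_)
  have hv' : hh ((c * c) • v) ((c * c) • v) = 0 := by
    rw [h_smul_left, h_smul_right hF, hvv, mul_zero, mul_zero]
  calc (QuotientGroup.mk s : PSU n F 2) * U6.root h4 hvv * (QuotientGroup.mk s)⁻¹
      = suToPSU n F 2 (s * UnitTwo.tv h4 hvv * s⁻¹) := by rw [map_mul, map_mul, map_inv]; rfl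
    _ = U6.root h4 hv' := congrArg (suToPSU n F 2) (by
          rw [UnitTwo.suVal_conj h4 s hvv]
          exact suVal_ext (by simp only [UnitTwo.suVal_tv h4, hsv]))
    _ = U6.root h4 hvv := U6.root_smul h4 hvv (mul_ne_zero hc0 hc0) hv'

end Unit

end Cfsg.Agent.Spor.Triality
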