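import Cfsg.Agent.Lib.Spor.Triality.OrthSw

/-! Coordinates in which a switch is a standard unipotent map. -/

set_option autoImplicit false
set_option linter.style.haveILetI false
set_option linter.unusedSectionVars false
set_option quotPrecheck false

namespace Cfsg.Agent.Spor.Triality

open Cfsg Matrix Module Cfsg.Agent.Spor

variable {ι : Type} [Fintype ι] [DecidableEq ι] {Q : QuadraticForm (ZMod 2) (ι → ZMod 2)}
  {M : (ι → ZMod 2) →ₗ[ZMod 2] (ι → ZMod 2)} (S : Swi Q M)

local notation "V" => ι → ZMod 2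
local notation "B" => QuadraticMap.polar ⇑Q

/-- Pairs in which the switch is standard. -/
structure Frame {k : ℕ} (a b : Fin k → V) : Prop where
  qa : ∀ i, Q (a i) = 0
  qb : ∀ i, Q (b i) = 0
  aa : ∀ i j, B (a i) (a j) = 0
  bb : ∀ i j, B (b i) (b j) = 0
  ab : ∀ i j, B (a i) (b j) = 0
  aNa : ∀ i j, B (a i) (S.N (a j)) = 0
  bNb : ∀ i j, B (b i) (S.N (b j)) = 0
  aNb : ∀ i j, B (a i) (S.N (b j)) = if i = j then 1 else 0

/-- The dual half. -/
def pp {k : ℕ} (a b : Fin k → V) : Fin k ⊕ Fin k → V := Sum.elim (fun i => S.N (b i)) (fun i => S.N (a i))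

variable {S}

theorem Frame.bNa {k : ℕ} {a b : Fin k → V} (F : Frame S a b) (i j : Fin k) :
    B (b i) (S.N (a j)) = if i = j then 1 else 0 := by
  rw [← S.adj, QuadraticMap.polar_comm, F.aNb, if_congr eq_comm rfl rfl]

theorem Frame.pq {k : ℕ} {a b : Fin k → V} (F : Frame S a b) (s t : Fin k ⊕ Fin k) :
    B (pp S a b s) (Sum.elim a b t) = if s = t then 1 else 0 := by
  rcases s with i | i <;> rcases t with j | j <;>
    simp [pp, QuadraticMap.polar_comm _ (S.N _), F.aNa, F.bNb, F.aNb, F.bNa, eq_comm]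

theorem Frame.two_le (hQ : (QuadraticMap.polarBilin Q).Nondegenerate) {k : ℕ} {a b : Fin k → V}
    (F : Frame S a b) {m : ℕ} (hm : Fintype.card ι = 2 * m) : 2 * k ≤ m := by
  have hli : LinearIndependent (ZMod 2) (pp S a b) := Fintype.linearIndependent_iff.mpr fun c hc t => by
    have h := congrArg (fun x => QuadraticMap.polarBilin Q x (Sum.elim a b t)) hc
    simp only [map_sum, LinearMap.sum_apply, map_smul, LinearMap.smul_apply, QuadraticMap.polarBilin_apply_apply,
      F.pq, map_zero, LinearMap.zero_apply, smul_eq_mul] at h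
    simpa using h
  have hsub : Submodule.span (ZMod 2) (Set.range (pp S a b)) ≤ LinearMap.range S.N := by
    rw [Submodule.span_le]
    rintro _ ⟨s | s, rfl⟩ <;> exact LinearMap.mem_range_self _ _
  have h := Submodule.finrank_mono hsub
  obtain ⟨hd, he⟩ := S.dim hQ
  rw [finrank_span_eq_card hli, Fintype.card_sum, Fintype.card_fin, he] at h
  omega

theorem Frame.extend (hQ : (QuadraticMap.polarBilin Q).Nondegenerate) {k : ℕ} {a b : Fin k → V}
    (F : Frame S a b) {m : ℕ} (hm : Fintype.card ι = 2 * m) (hk : 2 * k < m) :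
    ∃ a' b' : Fin (k + 1) → V, Frame S a' b' := by
  classical
  obtain ⟨hd, he⟩ := S.dim hQ
  let proj : V → V := fun v => v + ∑ i, (B v (S.N (b i)) • a i + B v (S.N (a i)) • b i +
    (B v (b i) • S.N (a i) + B v (a i) • S.N (b i)))
  have hsum : ∀ v u, B (proj v) u = B v u + ∑ i, (B v (S.N (b i)) * B (a i) u + B v (S.N (a i)) * B (b i) u +
      (B v (b i) * B (S.N (a i)) u + B v (a i) * B (S.N (b i)) u)) := fun v u => by
    show QuadraticMap.polarBilin Q (proj v) u = _
    simp [proj, map_add, map_sum, LinearMap.sum_apply, map_smul]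
  have orth : ∀ v j, B (proj v) (a j) = 0 ∧ B (proj v) (b j) = 0 ∧ B (proj v) (S.N (a j)) = 0 ∧
      B (proj v) (S.N (b j)) = 0 := fun v j => by
    refine ⟨?_, ?_, ?_, ?_⟩ <;> rw [hsum] <;>
      simp [F.aa, F.bb, F.ab, F.aNa, F.bNb, F.aNb, F.bNa, S.bNN, QuadraticMap.polar_comm _ (b _) (a _),
        QuadraticMap.polar_comm _ (S.N _) (a _), QuadraticMap.polar_comm _ (S.N _) (b _),
        CharTwo.add_self_eq_zero]
  obtain ⟨v, hv⟩ : ∃ v, S.N v ∉ Submodule.span (ZMod 2) (Set.range (pp S a b)) := by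
    by_contra hno
    push Not at hno
    have h := Submodule.finrank_mono (show LinearMap.range S.N ≤ Submodule.span (ZMod 2) (Set.range (pp S a b)) by
      rintro _ ⟨v, rfl⟩; exact hno v)
    have h2 := finrank_range_le_card (R := ZMod 2) (pp S a b)
    rw [Fintype.card_sum, Fintype.card_fin] at h2
    rw [he] at h
    rw [Set.finrank] at h2
    omega
  have hNa0 : S.N (proj v) ≠ 0 := by
    intro h0
    refine hv ?_
    simp only [proj, map_add, map_sum, map_smul, S.N_N, smul_zero, add_zero] at h0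
    rw [eq_of_add_eq_zero2 h0]
    refine Submodule.sum_mem _ fun i _ => add_mem (Submodule.smul_mem _ _ ?_) (Submodule.smul_mem _ _ ?_)
    · exact Submodule.subset_span ⟨Sum.inr i, rfl⟩
    · exact Submodule.subset_span ⟨Sum.inl i, rfl⟩
  obtain ⟨z, hz⟩ := OrthTwo.exists_polar_one Q hQ hNa0
  set x := proj v
  set y := proj z
  have ox : ∀ j, B x (a j) = 0 ∧ B x (b j) = 0 ∧ B x (S.N (a j)) = 0 ∧ B x (S.N (b j)) = 0 := orth v
  have oy : ∀ j, B y (a j) = 0 ∧ B y (b j) = 0 ∧ B y (S.N (a j)) = 0 ∧ B y (S.N (b j)) = 0 := orth z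
  have hxy : B x (S.N y) = 1 := by
    rw [← S.adj, QuadraticMap.polar_comm, hsum, QuadraticMap.polar_comm _ z (S.N x), hz, add_eq_left]
    refine Finset.sum_eq_zero fun i _ => ?_
    have e : ∀ w, B w (S.N x) = B x (S.N w) := fun w => by rw [← S.adj, QuadraticMap.polar_comm]
    simp [e, (ox i).2.2.1, (ox i).2.2.2, S.N_N]
  have hyx : B y (S.N x) = 1 := by rw [← S.adj, QuadraticMap.polar_comm, hxy]
  -- normalise
  set x' := x + Q x • S.N y with hx'
  set y' := y + Q y • S.N x with hy'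
  set y'' := y' + B x' y' • S.N y with hy''
  have hNx' : S.N x' = S.N x := by rw [hx', map_add, map_smul, S.N_N, smul_zero, add_zero]
  have hNy' : S.N y' = S.N y := by rw [hy', map_add, map_smul, S.N_N, smul_zero, add_zero]
  have hNy'' : S.N y'' = S.N y := by rw [hy'', map_add, map_smul, S.N_N, smul_zero, add_zero, hNy']
  have qadd : ∀ (u w : V) (t : ZMod 2), Q w = 0 → Q (u + t • w) = Q u + t * B u w := fun u w t hw => by
    rw [QuadraticMap.map_add ⇑Q, QuadraticMap.map_smul, QuadraticMap.polar_smul_right, hw]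
    simp
  have hqx : Q x' = 0 := by rw [hx', qadd _ _ _ (S.qN y), hxy, mul_one, CharTwo.add_self_eq_zero]
  have hqy : Q y' = 0 := by rw [hy', qadd _ _ _ (S.qN x), hyx, mul_one, CharTwo.add_self_eq_zero]
  have hy'N : B y' (S.N y) = 0 := by rw [← hNy']; exact S.bvN y'
  have hx'N : B x' (S.N y) = 1 := by
    rw [hx', QuadraticMap.polar_add_left, QuadraticMap.polar_smul_left, S.bNN, smul_zero, add_zero, hxy]
  have hqy'' : Q y'' = 0 := by rw [hy'', qadd _ _ _ (S.qN y), hqy, hy'N, mul_zero, add_zero]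
  have hxy'' : B x' y'' = 0 := by
    rw [hy'', QuadraticMap.polar_add_right, QuadraticMap.polar_smul_right, hx'N, smul_eq_mul, mul_one,
      CharTwo.add_self_eq_zero]
  have oN : ∀ w, (∀ j, B w (a j) = 0 ∧ B w (b j) = 0 ∧ B w (S.N (a j)) = 0 ∧ B w (S.N (b j)) = 0) →
      ∀ t : ZMod 2, ∀ u, (∀ j, B u (a j) = 0 ∧ B u (b j) = 0 ∧ B u (S.N (a j)) = 0 ∧ B u (S.N (b j)) = 0) →
        ∀ j, B (w + t • S.N u) (a j) = 0 ∧ B (w + t • S.N u) (b j) = 0 ∧
          B (w + t • S.N u) (S.N (a j)) = 0 ∧ B (w + t • S.N u) (S.N (b j)) = 0 := by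
    intro w hw t u hu j
    have e : ∀ z, B (S.N u) z = B u (S.N z) := fun z => S.adj u z
    refine ⟨?_, ?_, ?_, ?_⟩ <;> rw [QuadraticMap.polar_add_left, QuadraticMap.polar_smul_left, e] <;>
      simp [hw j, hu j, S.N_N]
  have ox' := oN x ox (Q x) y oy
  have oy'' := oN y' (oN y oy (Q y) x ox) (B x' y') y oy
  rw [← hx'] at ox'
  rw [← hy''] at oy''
  have sN : ∀ u w : V, B u (S.N w) = B w (S.N u) := fun u w => by rw [← S.adj, QuadraticMap.polar_comm]
  refine ⟨Fin.snoc a x', Fin.snoc b y'', ?_⟩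
  constructor
  · intro i; refine Fin.lastCases ?_ (fun i => ?_) i <;> simp [hqx, F.qa]
  · intro i; refine Fin.lastCases ?_ (fun i => ?_) i <;> simp [hqy'', F.qb]
  · intro i j
    refine Fin.lastCases ?_ (fun i => ?_) i <;> refine Fin.lastCases ?_ (fun j => ?_) j <;>
      simp [polar_self2, hqx, F.aa, (ox' _).1, QuadraticMap.polar_comm _ (a _) x']
  · intro i j
    refine Fin.lastCases ?_ (fun i => ?_) i <;> refine Fin.lastCases ?_ (fun j => ?_) j <;>
      simp [polar_self2, hqy'', F.bb, (oy'' _).2.1, QuadraticMap.polar_comm _ (b _) y'']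
  · intro i j
    refine Fin.lastCases ?_ (fun i => ?_) i <;> refine Fin.lastCases ?_ (fun j => ?_) j <;>
      simp [hxy'', F.ab, (ox' _).2.1, (oy'' _).1, QuadraticMap.polar_comm _ (a _) y'']
  · intro i j
    refine Fin.lastCases ?_ (fun i => ?_) i <;> refine Fin.lastCases ?_ (fun j => ?_) j <;>
      simp [S.bvN, F.aNa, (ox' _).2.2.1, sN (a _) x']
  · intro i j
    refine Fin.lastCases ?_ (fun i => ?_) i <;> refine Fin.lastCases ?_ (fun j => ?_) j <;>
      simp [S.bvN, F.bNb, (oy'' _).2.2.2, sN (b _) y'']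
  · intro i j
    refine Fin.lastCases ?_ (fun i => ?_) i <;> refine Fin.lastCases ?_ (fun j => ?_) j <;>
      simp [hx'N, hNy'', F.aNb, (ox' _).2.2.2, sN (a _) y'', sN (a _) y, (oy _).2.2.1, (oy'' _).2.2.1, (Fin.castSucc_lt_last _).ne,
        (Fin.castSucc_lt_last _).ne']

theorem exists_frame (hQ : (QuadraticMap.polarBilin Q).Nondegenerate) (S : Swi Q M) {m : ℕ}
    (hm : Fintype.card ι = 2 * m) :
    ∃ (r : ℕ) (a b : Fin r → V), m = 2 * r ∧ Frame S a b := by
  have h : ∀ k, 2 * k ≤ m + 1 → ∃ a b : Fin k → V, Frame S a b := by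
    intro k
    induction k with
    | zero =>
      exact fun _ => ⟨Fin.elim0, Fin.elim0, fun i => i.elim0, fun i => i.elim0, fun i => i.elim0,
        fun i => i.elim0, fun i => i.elim0, fun i => i.elim0, fun i => i.elim0, fun i => i.elim0⟩
    | succ k ih =>
      intro hk
      obtain ⟨a, b, F⟩ := ih (by omega)
      exact F.extend hQ hm (by omega)
  obtain ⟨a, b, F⟩ := h ((m + 1) / 2) (by omega)
  have := F.two_le hQ hm
  exact ⟨_, a, b, by omega, F⟩

omit [DecidableEq ι] in
theorem ts_sum {κ : Type} [Fintype κ] {p : κ → V} (hp : ∀ s, Q (p s) = 0) (hpp : ∀ s t, B (p s) (p t) = 0)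
    (c : κ → ZMod 2) : Q (∑ s, c s • p s) = 0 := by
  classical
  suffices ∀ T : Finset κ, Q (∑ s ∈ T, c s • p s) = 0 from this _
  intro T
  induction T using Finset.induction_on with
  | empty => simp
  | insert s T hs ih =>
    rw [Finset.sum_insert hs, QuadraticMap.map_add ⇑Q, QuadraticMap.map_smul, hp, smul_zero, ih, zero_add,
      zero_add]
    show QuadraticMap.polarBilin Q _ _ = 0
    simp [map_sum, hpp]

/-- The standard coordinates. -/
noncomputable def Frame.lin {r : ℕ} {a b : Fin r → V} (_F : Frame S a b) :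
    ((Fin r ⊕ Fin r → ZMod 2) × (Fin r ⊕ Fin r → ZMod 2)) →ₗ[ZMod 2] V :=
  (Fintype.linearCombination (ZMod 2) (pp S a b)).comp (LinearMap.fst _ _ _) +
    (Fintype.linearCombination (ZMod 2) (Sum.elim a b)).comp (LinearMap.snd _ _ _)

variable {r : ℕ} {a b : Fin r → ι → ZMod 2} (F : Frame S a b)
include F

theorem Frame.lin_apply (z : (Fin r ⊕ Fin r → ZMod 2) × (Fin r ⊕ Fin r → ZMod 2)) :
    F.lin z = ∑ s, z.1 s • pp S a b s + ∑ s, z.2 s • Sum.elim a b s := by
  simp [Frame.lin, Fintype.linearCombination_apply]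

theorem Frame.q_lin (z : (Fin r ⊕ Fin r → ZMod 2) × (Fin r ⊕ Fin r → ZMod 2)) : Q (F.lin z) = z.1 ⬝ᵥ z.2 := by
  have h1 := ts_sum (p := pp S a b) (by rintro (i | i) <;> exact S.qN _)
    (by rintro (i | i) (j | j) <;> exact S.bNN _ _) z.1
  have h2 := ts_sum (p := Sum.elim a b) (by rintro (i | i); exacts [F.qa i, F.qb i]) (by
    rintro (i | i) (j | j)
    exacts [F.aa i j, F.ab i j, (QuadraticMap.polar_comm _ _ _).trans (F.ab j i), F.bb i j]) z.2
  rw [F.lin_apply, QuadraticMap.map_add ⇑Q, h1, h2, zero_add, zero_add]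
  show QuadraticMap.polarBilin Q _ _ = _
  simp only [map_sum, LinearMap.sum_apply, map_smul, LinearMap.smul_apply, QuadraticMap.polarBilin_apply_apply,
    smul_eq_mul, F.pq, dotProduct]
  simp [mul_comm]

theorem Frame.N_lin (z : (Fin r ⊕ Fin r → ZMod 2) × (Fin r ⊕ Fin r → ZMod 2)) :
    S.N (F.lin z) = F.lin (fun s => z.2 s.swap, 0) := by
  have e1 : ∀ s, S.N (pp S a b s) = 0 := by rintro (i | i) <;> exact S.N_N _
  rw [F.lin_apply, F.lin_apply, map_add, map_sum, map_sum]
  simp only [map_smul, e1, smul_zero, Finset.sum_const_zero, zero_add, Pi.zero_apply, zero_smul, add_zero]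
  refine Fintype.sum_equiv (Equiv.sumComm _ _) _ _ fun s => ?_
  rcases s with i | i <;> rfl

theorem Frame.bij (hcard : Fintype.card ι = 4 * r) : Function.Bijective F.lin := by
  have hinj : Function.Injective F.lin := LinearMap.ker_eq_bot.mp <| LinearMap.ker_eq_bot'.mpr fun z hz => by
    have e2 : z.2 = 0 := by
      have hN := F.N_lin z
      rw [hz, map_zero] at hN
      funext t
      have h := congrArg (fun x => QuadraticMap.polarBilin Q x (Sum.elim a b t.swap)) hN
      simp only [F.lin_apply, map_add, map_sum, map_smul, map_zero, LinearMap.zero_apply, LinearMap.add_apply,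
        LinearMap.sum_apply, LinearMap.smul_apply, QuadraticMap.polarBilin_apply_apply, F.pq] at h
      simpa using h.symm
    have e1 : z.1 = 0 := by
      funext t
      have h := congrArg (fun x => QuadraticMap.polarBilin Q x (Sum.elim a b t)) hz
      simp only [F.lin_apply, e2, map_add, map_sum, map_smul, map_zero, LinearMap.zero_apply, LinearMap.add_apply,
        LinearMap.sum_apply, LinearMap.smul_apply, QuadraticMap.polarBilin_apply_apply, F.pq, Pi.zero_apply,
        zero_smul] at h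
      simpa using h
    exact Prod.ext e1 e2
  refine ⟨hinj, (LinearMap.injective_iff_surjective_of_finrank_eq_finrank ?_).mp hinj⟩
  rw [Module.finrank_prod, Module.finrank_fintype_fun_eq_card, Module.finrank_fintype_fun_eq_card,
    Fintype.card_sum, Fintype.card_fin, hcard]
  omega

end Cfsg.Agent.Spor.Triality
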