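import Cfsg.Agent.Lib.Spor.Triality.Switch
import Cfsg.Agent.Lib.Spor.FischerThm.OrthTarget

/-! Switches of orthogonal transvection classes over the field of two elements. -/

set_option autoImplicit false
set_option linter.style.haveILetI false
set_option linter.unusedSectionVars false

namespace Cfsg.Agent.Spor.Triality

open Cfsg Matrix Module Cfsg.Agent.Spor
open Cfsg.Agent.Spor.FischerThm (OTwo.tset OTwo.pt)

variable {ι : Type} [Fintype ι] [DecidableEq ι] {Q : QuadraticForm (ZMod 2) (ι → ZMod 2)}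

local notation "V" => ι → ZMod 2

theorem add_self2 (x : V) : x + x = 0 := funext fun i => CharTwo.add_self_eq_zero (x i)

theorem eq_of_add_eq_zero2 {x y : V} (h : x + y = 0) : x = y := by
  calc x = x + (y + y) := by rw [add_self2, add_zero]
    _ = y := by rw [← add_assoc, h, zero_add]

/-- An involutory isometry with totally singular fixed space. -/
structure Swi (Q : QuadraticForm (ZMod 2) V) (M : V →ₗ[ZMod 2] V) : Prop where
  q : ∀ v, Q (M v) = Q v
  inv : ∀ v, M (M v) = v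
  free : ∀ v, Q v = 1 → M v ≠ v

theorem polar_self2 (x : V) : QuadraticMap.polar ⇑Q x x = 0 := by
  rw [QuadraticMap.polar_self, two_nsmul]; exact CharTwo.add_self_eq_zero _

/-- The matrix action. -/
noncomputable def act (g : ↥(isometryGroup (ZMod 2) ⇑Q)) : V →ₗ[ZMod 2] V :=
  Matrix.mulVecLin (((g : GL ι (ZMod 2)) : Matrix ι ι (ZMod 2)))

theorem act_inj {g g' : ↥(isometryGroup (ZMod 2) ⇑Q)} (h : ∀ v, act g v = act g' v) : g = g' :=
  Subtype.ext (Units.ext (Matrix.ext_iff_mulVec.2 h))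

theorem act_mul (g g' : ↥(isometryGroup (ZMod 2) ⇑Q)) (v : V) : act (g * g') v = act g (act g' v) := by
  simp [act, Matrix.mulVec_mulVec]

theorem act_one (v : V) : act (1 : ↥(isometryGroup (ZMod 2) ⇑Q)) v = v := by simp [act]

theorem act_q (g : ↥(isometryGroup (ZMod 2) ⇑Q)) (v : V) : Q (act g v) = Q v :=
  Classical.mem_isometryGroup.1 g.2 v

theorem act_pt {a : V} (ha : Q a = 1) (v : V) :
    act (OTwo.pt Q a) v = v + QuadraticMap.polar ⇑Q a v • a := by
  show _ *ᵥ v = _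
  rw [FischerThm.OTwo.pt_val Q ha, OrthTwo.refl_two Q ha]

variable (hQ : (QuadraticMap.polarBilin Q).Nondegenerate)
include hQ

theorem conj_pt (g : ↥(isometryGroup (ZMod 2) ⇑Q)) {a : V} (ha : Q a = 1) :
    g * OTwo.pt Q a * g⁻¹ = OTwo.pt Q (act g a) := by
  have hga : Q (act g a) = 1 := by rw [act_q, ha]
  refine Subtype.ext (Units.ext ?_)
  rw [FischerThm.OTwo.pt_val Q hga]
  exact ReflThree.coe_conj (FischerThm.OTwo.pt_val Q ha)

theorem swi_of_sw {g : ↥(isometryGroup (ZMod 2) ⇑Q)} (h : Sw (OTwo.tset Q) g) : Swi Q (act g) :=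
  ⟨act_q g, fun v => by rw [← act_mul, h.1, act_one], fun v hv e =>
    (h.2 _ (FischerThm.OTwo.pt_mem Q hQ hv)).1 (mul_inv_eq_iff_eq_mul.mp (by rw [conj_pt hQ g hv, e])).symm⟩

theorem swap_of_sw {g : ↥(isometryGroup (ZMod 2) ⇑Q)} (h : Sw (OTwo.tset Q) g) {a b : V} (ha : Q a = 1)
    (hb : Q b = 1) (e : g * OTwo.pt Q a * g = OTwo.pt Q b) : act g a = b := by
  refine FischerThm.OTwo.pt_inj Q hQ (by rw [act_q, ha]) hb ?_
  rw [← conj_pt hQ g ha, inv_eq_of_mul_eq_one_right h.1, e]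

omit hQ

namespace Swi

variable {M : (ι → ZMod 2) →ₗ[ZMod 2] (ι → ZMod 2)}

/-- The nilpotent part. -/
def N (_S : Swi Q M) : (ι → ZMod 2) →ₗ[ZMod 2] (ι → ZMod 2) :=
  M + (LinearMap.id : (ι → ZMod 2) →ₗ[ZMod 2] (ι → ZMod 2))

variable (S : Swi Q M)
include S

theorem N_apply (v : V) : S.N v = M v + v := rfl

theorem fix_N (v : V) : M (S.N v) = S.N v := by rw [N_apply, map_add, S.inv, add_comm]

theorem N_N (v : V) : S.N (S.N v) = 0 := by rw [S.N_apply (S.N v), S.fix_N, add_self2]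

theorem q_fix {v : V} (h : M v = v) : Q v = 0 := by
  by_contra hc
  exact S.free v (OrthTwo.eq_one_two _ hc) h

theorem fix_iff (v : V) : S.N v = 0 ↔ M v = v :=
  ⟨fun h => eq_of_add_eq_zero2 h, fun h => by rw [N_apply, h, add_self2]⟩

theorem qN (v : V) : Q (S.N v) = 0 := S.q_fix (S.fix_N v)

theorem bNN (u v : V) : QuadraticMap.polar ⇑Q (S.N u) (S.N v) = 0 := by
  rw [QuadraticMap.polar, ← map_add, S.qN, S.qN, S.qN]; simp

theorem bM (u v : V) : QuadraticMap.polar ⇑Q (M u) (M v) = QuadraticMap.polar ⇑Q u v := by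
  simp only [QuadraticMap.polar, ← map_add, S.q]

theorem adj (u v : V) : QuadraticMap.polar ⇑Q (S.N u) v = QuadraticMap.polar ⇑Q u (S.N v) := by
  rw [N_apply, N_apply, QuadraticMap.polar_add_left, QuadraticMap.polar_add_right]
  congr 1
  conv_lhs => rw [← S.inv v]
  rw [S.bM]

theorem bMv (v : V) : QuadraticMap.polar ⇑Q v (M v) = 0 := by
  have h := S.qN v
  rw [N_apply, QuadraticMap.map_add ⇑Q, S.q, CharTwo.add_self_eq_zero, zero_add, QuadraticMap.polar_comm] at h
  exact h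

theorem bvN (v : V) : QuadraticMap.polar ⇑Q v (S.N v) = 0 := by
  rw [N_apply, QuadraticMap.polar_add_right, S.bMv, polar_self2, add_zero]

theorem ker_ts : ∀ v ∈ LinearMap.ker S.N, Q v = 0 := fun v hv => S.q_fix ((S.fix_iff v).mp hv)

theorem range_le_ker : LinearMap.range S.N ≤ LinearMap.ker S.N := by
  rintro _ ⟨v, rfl⟩; exact S.N_N v

include hQ

theorem dim : 2 * finrank (ZMod 2) (LinearMap.ker S.N) = Fintype.card ι ∧
    LinearMap.range S.N = LinearMap.ker S.N := by
  have hle : LinearMap.ker S.N ≤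
      LinearMap.BilinForm.orthogonal (QuadraticMap.polarBilin Q) (LinearMap.ker S.N) := fun u hu v hv => by
    show QuadraticMap.polar ⇑Q v u = 0
    rw [QuadraticMap.polar, S.ker_ts u hu, S.ker_ts v hv, S.ker_ts _ (add_mem hv hu)]; simp
  have h1 := Submodule.finrank_mono hle
  rw [LinearMap.BilinForm.finrank_orthogonal hQ] at h1
  have h2 := LinearMap.finrank_range_add_finrank_ker S.N
  have h3 := Submodule.finrank_mono S.range_le_ker
  rw [Module.finrank_fintype_fun_eq_card] at h1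
  rw [Module.finrank_fintype_fun_eq_card] at h2
  exact ⟨by omega, Submodule.eq_of_le_of_finrank_eq S.range_le_ker (by omega)⟩

end Swi

/-- The elliptic form has no totally singular subspace of half dimension. -/
theorem minus_no_sw (m : ℕ) (g : ↥(isometryGroup (ZMod 2) ⇑(Classical.qfMinus m (ZMod 2) 1 1))) :
    ¬ Sw (OTwo.tset (Classical.qfMinus m (ZMod 2) 1 1)) g := by
  intro h
  have hQ := OrthTwo.nondeg_minus m
  have S := swi_of_sw hQ h
  set K := LinearMap.ker S.N
  have hK := (S.dim hQ).1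
  simp only [Fintype.card_sum, Fintype.card_fin] at hK
  have han : ∀ a b : ZMod 2, a ^ 2 + 1 * a * b + 1 * b ^ 2 = 0 → a = 0 ∧ b = 0 := by decide
  let Lf : ((Fin m ⊕ Fin m) ⊕ Fin 2 → ZMod 2) →ₗ[ZMod 2] (Fin m → ZMod 2) :=
    LinearMap.funLeft (ZMod 2) (ZMod 2) fun i => Sum.inl (Sum.inl i)
  let Rf : ((Fin m ⊕ Fin m) ⊕ Fin 2 → ZMod 2) →ₗ[ZMod 2] (Fin m → ZMod 2) :=
    LinearMap.funLeft (ZMod 2) (ZMod 2) fun i => Sum.inl (Sum.inr i)
  let L := LinearMap.range (Lf.comp K.subtype)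
  let Ψ : LinearMap.ker (Lf.comp K.subtype) →ₗ[ZMod 2] Module.Dual (ZMod 2) (Fin m → ZMod 2) :=
    (dotProductEquiv (ZMod 2) (Fin m)).toLinearMap.comp
      (Rf.comp (K.subtype.comp (LinearMap.ker (Lf.comp K.subtype)).subtype))
  have hval : ∀ k : LinearMap.ker (Lf.comp K.subtype), ∀ i, (k.1 : (Fin m ⊕ Fin m) ⊕ Fin 2 → ZMod 2) (.inl (.inl i)) = 0 :=
    fun k i => congrFun k.2 i
  have hz : ∀ k : LinearMap.ker (Lf.comp K.subtype), ∀ j, (k.1 : (Fin m ⊕ Fin m) ⊕ Fin 2 → ZMod 2) (.inr j) = 0 := by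
    intro k j
    have h0 := S.ker_ts _ k.1.2
    rw [Classical.qfMinus_apply, quadFormMinus] at h0
    simp only [hval k, zero_mul, Finset.sum_const_zero, zero_add] at h0
    obtain ⟨e0, e1⟩ := han _ _ h0
    fin_cases j
    exacts [e0, e1]
  have hinj : Function.Injective Ψ := LinearMap.ker_eq_bot.mp <| LinearMap.ker_eq_bot'.mpr fun k hk => by
    have hr : ∀ i, (k.1 : (Fin m ⊕ Fin m) ⊕ Fin 2 → ZMod 2) (.inl (.inr i)) = 0 := fun i => by
      have := congrFun ((dotProductEquiv (ZMod 2) (Fin m)).map_eq_zero_iff.mp hk) i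
      exact this
    refine Subtype.ext (Subtype.ext (funext fun s => ?_))
    rcases s with (i | i) | j
    exacts [hval k i, hr i, hz k j]
  have hle : LinearMap.range Ψ ≤ L.dualAnnihilator := by
    rintro _ ⟨k, rfl⟩
    rw [Submodule.mem_dualAnnihilator]
    rintro _ ⟨x, rfl⟩
    have h1 := S.ker_ts _ (add_mem k.1.2 x.2)
    have h2 := S.ker_ts _ k.1.2
    have h3 := S.ker_ts _ x.2
    rw [Classical.qfMinus_apply, quadFormMinus] at h1 h2 h3
    simp only [Pi.add_apply, hval k, hz k, zero_add, add_mul, mul_add, Finset.sum_add_distrib] at h1 h2 h3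
    show (fun i => (k.1 : (Fin m ⊕ Fin m) ⊕ Fin 2 → ZMod 2) (.inl (.inr i))) ⬝ᵥ
      (fun i => (x : (Fin m ⊕ Fin m) ⊕ Fin 2 → ZMod 2) (.inl (.inl i))) = 0
    simp only [dotProduct]
    rw [Finset.sum_congr rfl fun i _ => mul_comm _ _]
    linear_combination h1 - h3
  have e1 := Submodule.finrank_mono hle
  rw [LinearMap.finrank_range_of_inj hinj] at e1
  have e2 := Subspace.finrank_add_finrank_dualAnnihilator_eq L
  have e3 := LinearMap.finrank_range_add_finrank_ker (Lf.comp K.subtype)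
  rw [Module.finrank_fintype_fun_eq_card, Fintype.card_fin] at e2
  change finrank (ZMod 2) L + _ = _ at e3
  replace hK : 2 * finrank (ZMod 2) K = m + m + 2 := hK
  omega

variable (hQ : (QuadraticMap.polarBilin Q).Nondegenerate)
include hQ

theorem orth_unique : UniqueFactor (OTwo.tset Q) := by
  rintro A hA B hB C hC D hD hAB cAB hCD cCD he
  obtain ⟨a, ha, rfl⟩ := FischerThm.OTwo.exists_pt Q hQ hA
  obtain ⟨b, hb, rfl⟩ := FischerThm.OTwo.exists_pt Q hQ hB
  obtain ⟨c, hc, rfl⟩ := FischerThm.OTwo.exists_pt Q hQ hC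
  obtain ⟨d, hd, rfl⟩ := FischerThm.OTwo.exists_pt Q hQ hD
  rw [FischerThm.OTwo.pt_commute Q hQ ha hb] at cAB
  have cCD' := (FischerThm.OTwo.pt_commute Q hQ hc hd).mp cCD
  have hne : a + b ≠ 0 := fun e => hAB (by rw [eq_of_add_eq_zero2 e])
  obtain ⟨u, hu⟩ := OrthTwo.exists_polar_one Q hQ hne
  rw [QuadraticMap.polar_add_left] at hu
  have hv : ∀ x y : V, Q x = 1 → Q y = 1 → QuadraticMap.polar ⇑Q x y = 0 →
      act (OTwo.pt Q x * OTwo.pt Q y) u =
        u + (QuadraticMap.polar ⇑Q x u • x + QuadraticMap.polar ⇑Q y u • y) := fun x y hx hy h => by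
    rw [act_mul, act_pt hy, act_pt hx, QuadraticMap.polar_add_right, QuadraticMap.polar_smul_right, h,
      smul_zero, add_zero]
    abel
  have key := hv a b ha hb cAB
  rw [he, hv c d hc hd cCD', add_right_inj] at key
  have k2 : ∀ z, Q z = 1 → z = QuadraticMap.polar ⇑Q c u • c + QuadraticMap.polar ⇑Q d u • d →
      z = c ∨ z = d := by
    intro z hz e
    have cz : ∀ t : ZMod 2, t = 0 ∨ t = 1 := by decide
    rcases cz (QuadraticMap.polar ⇑Q c u) with e1 | e1 <;> rcases cz (QuadraticMap.polar ⇑Q d u) with e2 | e2 <;>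
      simp only [e1, e2, zero_smul, one_smul, zero_add, add_zero] at e
    · rw [e, QuadraticMap.map_zero] at hz; exact absurd hz zero_ne_one
    · exact Or.inr e
    · exact Or.inl e
    · rw [e, QuadraticMap.map_add ⇑Q, hc, hd, cCD'] at hz
      exact absurd hz (by decide)
  have hsol : a = c ∨ a = d ∨ b = c ∨ b = d := by
    have cz : ∀ s t : ZMod 2, s + t = 1 → s = 1 ∧ t = 0 ∨ s = 0 ∧ t = 1 := by decide
    rcases cz _ _ hu with ⟨e1, e2⟩ | ⟨e1, e2⟩ <;> rw [e1, e2, one_smul, zero_smul] at key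
    · rw [add_zero] at key
      rcases k2 a ha key.symm with e | e
      exacts [Or.inl e, Or.inr (Or.inl e)]
    · rw [zero_add] at key
      exact Or.inr (Or.inr (k2 b hb key.symm))
  have hab : OTwo.pt Q a * OTwo.pt Q b = OTwo.pt Q b * OTwo.pt Q a :=
    ((FischerThm.OTwo.pt_commute Q hQ ha hb).mpr cAB).eq
  rcases hsol with rfl | rfl | rfl | rfl
  · exact Or.inl rfl
  · rw [hab] at he
    exact Or.inr (mul_right_cancel he).symm
  · exact Or.inr rfl
  · exact Or.inl (mul_right_cancel he).symm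

end Cfsg.Agent.Spor.Triality
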