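import Cfsg.Agent.Lib.Spor.Triality.Switch
import Cfsg.Agent.Lib.Spor.FischerThm.ReflModel

/-! Switches of projective reflection classes over the field of three elements. -/

set_option autoImplicit false
set_option linter.style.haveILetI false
set_option linter.unusedSectionVars false

namespace Cfsg.Agent.Spor.Triality

open Cfsg Matrix Module Cfsg.Agent.Spor Cfsg.Agent.Spor.FischerThm

variable {n : ℕ} {Q : QuadraticForm (ZMod 3) (Q3.V n)} {c : ZMod 3}

theorem sq_one (hc : c ≠ 0) : c * c = 1 := ReflThree.three_cases c hc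

/-- The action of an element of the reflection group. -/
noncomputable def ract (s : ↥(reflectionSubgroup (⇑Q) c)) : Q3.V n →ₗ[ZMod 3] Q3.V n :=
  Matrix.mulVecLin (Fus.ThreeA.Refl.mat s)

theorem ract_mul (s t : ↥(reflectionSubgroup (⇑Q) c)) (v : Q3.V n) : ract (s * t) v = ract s (ract t v) := by
  simp [ract, Fus.ThreeA.Refl.mat, Matrix.mulVec_mulVec]

theorem ract_one (v : Q3.V n) : ract (1 : ↥(reflectionSubgroup (⇑Q) c)) v = v := by
  simp [ract, Fus.ThreeA.Refl.mat]

theorem ract_q (s : ↥(reflectionSubgroup (⇑Q) c)) (v : Q3.V n) : Q (ract s v) = Q v :=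
  Classical.mem_isometryGroup.1 s.1.2 v

theorem ract_B (s : ↥(reflectionSubgroup (⇑Q) c)) (u v : Q3.V n) :
    Q3.B Q (ract s u) (ract s v) = Q3.B Q u v := by
  simp only [Q3.B, QuadraticMap.polar, ← map_add, ract_q]

theorem ract_inj {s t : ↥(reflectionSubgroup (⇑Q) c)} (h : ∀ v, ract s v = ract t v) : s = t :=
  Fus.ThreeA.Refl.mat_inj (Matrix.ext_iff_mulVec.2 h)

variable (hc : c ≠ 0)

/-- The chosen reflection of a vector of the norm. -/
noncomputable def rr {v : Q3.V n} (hv : Q v = c) : ↥(reflectionSubgroup (⇑Q) c) :=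
  (FischerThm.exists_refl Q hc hv).choose

/-- Its image. -/
noncomputable def rp {v : Q3.V n} (hv : Q v = c) : RGrp Q c := QuotientGroup.mk (rr hc hv)

theorem rr_mat {v : Q3.V n} (hv : Q v = c) : Fus.ThreeA.Refl.mat (rr hc hv) = reflectionMatrix ⇑Q v :=
  (FischerThm.exists_refl Q hc hv).choose_spec.2

theorem rp_mem {v : Q3.V n} (hv : Q v = c) : rp hc hv ∈ rset Q c :=
  ⟨rr hc hv, (FischerThm.exists_refl Q hc hv).choose_spec.1, rfl⟩

theorem exists_rp {e : RGrp Q c} (he : e ∈ rset Q c) : ∃ (v : Q3.V n) (hv : Q v = c), rp hc hv = e := by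
  obtain ⟨s, ⟨v, hv, h⟩, rfl⟩ := he
  exact ⟨v, hv, congrArg QuotientGroup.mk (Fus.ThreeA.Refl.mat_inj ((rr_mat hc hv).trans h.symm))⟩

theorem ract_rr {v : Q3.V n} (hv : Q v = c) (u : Q3.V n) : ract (rr hc hv) u = u - (c * Q3.B Q v u) • v := by
  show Fus.ThreeA.Refl.mat _ *ᵥ u = _
  rw [rr_mat, Classical.reflectionMatrix_mulVec, hv, inv_eq_of_mul_eq_one_left (sq_one hc)]

theorem rr_pm {v w : Q3.V n} (hv : Q v = c) (hw : Q w = c) (h : w = v ∨ w = -v) : rr hc hw = rr hc hv := by
  refine Fus.ThreeA.Refl.mat_inj ?_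
  rw [rr_mat, rr_mat]
  rcases h with rfl | rfl
  · rfl
  · rw [← neg_one_smul (ZMod 3) v, ReflThree.reflection_smul Q (by decide)]

theorem rr_conj (s : ↥(reflectionSubgroup (⇑Q) c)) {v : Q3.V n} (hv : Q v = c)
    (h : Q (ract s v) = c) : s * rr hc hv * s⁻¹ = rr hc h := by
  refine Fus.ThreeA.Refl.mat_inj ?_
  rw [rr_mat hc h]
  exact ReflThree.coe_conj (rr_mat hc hv)

theorem rr_commute {u v : Q3.V n} (hu : Q u = c) (hv : Q v = c) (h : Q3.B Q u v = 0) :
    Commute (rr hc hu) (rr hc hv) := by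
  have e : ract (rr hc hu) v = v := by rw [ract_rr, h, mul_zero, zero_smul, sub_zero]
  have k := rr_conj hc (rr hc hu) hv (by rw [e, hv])
  rw [rr_pm hc hv _ (Or.inl e)] at k
  exact mul_inv_eq_iff_eq_mul.mp k

theorem exists_perp_ne_zero {k : ℕ} (hk : k < n) (p : Fin k → Q3.V n) :
    ∃ u : Q3.V n, u ≠ 0 ∧ ∀ i, Q3.B Q (p i) u = 0 := by
  let L : Q3.V n →ₗ[ZMod 3] (Fin k → ZMod 3) := LinearMap.pi fun i => QuadraticMap.polarBilin Q (p i)
  have h := LinearMap.finrank_range_add_finrank_ker L
  have h2 : finrank (ZMod 3) (LinearMap.range L) ≤ k := (Submodule.finrank_le _).trans (by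
    rw [Module.finrank_fintype_fun_eq_card, Fintype.card_fin])
  rw [Module.finrank_fintype_fun_eq_card, Fintype.card_fin] at h
  have hne : LinearMap.ker L ≠ ⊥ := fun e => by
    rw [e, finrank_bot] at h
    omega
  obtain ⟨u, hu, hu0⟩ := Submodule.exists_mem_ne_zero_of_ne_bot hne
  exact ⟨u, hu0, fun i => congrFun hu i⟩

theorem ne_neg_self {u : Q3.V n} (hu : u ≠ 0) : u ≠ -u := fun e => hu (by
  funext i
  have := congrFun e i
  have d : ∀ t : ZMod 3, t = -t → t = 0 := by decide
  exact d _ this)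

variable (hn : 5 ≤ n) (hQ : (QuadraticMap.polarBilin Q).Nondegenerate)
include hn hQ

theorem lift_eq {s t : ↥(reflectionSubgroup (⇑Q) c)} (h : (QuotientGroup.mk s : RGrp Q c) = QuotientGroup.mk t)
    (hc : c ≠ 0) : (∀ v, ract t v = ract s v) ∨ ∀ v, ract t v = -ract s v := by
  have hz := QuotientGroup.eq.mp h
  have e : t = s * (s⁻¹ * t) := (mul_inv_cancel_left s t).symm
  rcases Fus.ThreeA.Refl.central hn hQ hc hz with k | k
  · left; intro v
    rw [e, ract_mul]
    show ract s (Fus.ThreeA.Refl.mat _ *ᵥ v) = _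
    rw [k, Matrix.one_mulVec]
  · right; intro v
    rw [e, ract_mul]
    show ract s (Fus.ThreeA.Refl.mat _ *ᵥ v) = _
    rw [k, Matrix.neg_mulVec, Matrix.one_mulVec, map_neg]

theorem rp_inj {u v : Q3.V n} (hu : Q u = c) (hv : Q v = c) (h : rp hc hu = rp hc hv) : u = v ∨ u = -v := by
  rcases lift_eq hn hQ h hc with k | k
  · exact eq_or_neg_of_refl hc hu (by rw [← rr_mat hc hu, ← rr_mat hc hv]; exact (Matrix.ext_iff_mulVec.2 k).symm)
  · exfalso
    obtain ⟨x, hx, hp⟩ := exists_perp_ne_zero (Q := Q) (k := 2) (by omega) ![u, v]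
    have h1 := k x
    rw [ract_rr, ract_rr, show Q3.B Q u x = 0 from hp 0, show Q3.B Q v x = 0 from hp 1] at h1
    simp only [mul_zero, zero_smul, sub_zero] at h1
    exact ne_neg_self hx h1

/-- The facts carried by the lift of a switch. -/
theorem sw_lift {s : ↥(reflectionSubgroup (⇑Q) c)} (hc : c ≠ 0)
    (h : Sw (rset Q c) (QuotientGroup.mk s : RGrp Q c)) :
    (∀ v, ract s (ract s v) = -v) ∧ ∀ v, Q3.B Q v (ract s v) = 0 := by
  have hsq : ∀ u, Q u = c → ract s u ≠ u ∧ ract s u ≠ -u := by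
    intro u hu
    have hsu : Q (ract s u) = c := by rw [ract_q, hu]
    have hne : rr hc hsu ≠ rr hc hu := fun e => (h.2 _ (rp_mem hc hu)).1 (by
      have k := rr_conj hc s hu hsu
      rw [e] at k
      have k2 : Commute (rr hc hu) s := (mul_inv_eq_iff_eq_mul.mp k).symm
      exact k2.map (QuotientGroup.mk' _))
    exact ⟨fun e => hne (rr_pm hc hu hsu (Or.inl e)), fun e => hne (rr_pm hc hu hsu (Or.inr e))⟩
  have hneg : ∀ v, ract s (ract s v) = -v := by
    rcases lift_eq hn hQ (s := 1) (t := s * s) (by rw [QuotientGroup.mk_mul, QuotientGroup.mk_one, h.1]) hc with k | k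
    swap
    · intro v; have := k v; rwa [ract_mul, ract_one] at this
    exfalso
    have hss : ∀ v, ract s (ract s v) = v := fun v => by have := k v; rwa [ract_mul, ract_one] at this
    have d1 : ∀ t : ZMod 3, (2 + 2) * t = t := by decide
    have dv : ∀ t : ZMod 3, t ≠ 0 → t ≠ c → ∀ c' : ZMod 3, c' = c → t = -c' := by
      have : ∀ c t : ZMod 3, c ≠ 0 → t ≠ 0 → t ≠ c → t = -c := by decide
      exact fun t h1 h2 c' e => e ▸ this c t hc h1 h2
    have line : ∀ ε : ZMod 3, ε * ε = 1 →
        ∃ a : Q3.V n, ∀ w, ract s w = ε • w → w ∈ Submodule.span (ZMod 3) {a} := by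
      intro ε hε
      have hnoc : ∀ w, ract s w = ε • w → Q w = 0 ∨ Q w = -c := fun w hw => by
        by_cases h0 : Q w = 0
        · exact Or.inl h0
        refine Or.inr (dv _ h0 (fun e => ?_) c rfl)
        have : ε = 1 ∨ ε = -1 := mul_self_eq_one_iff.mp hε
        rcases this with rfl | rfl
        · exact (hsq w e).1 (by rw [hw, one_smul])
        · exact (hsq w e).2 (by rw [hw, neg_one_smul])
      have hrad : ∀ w, ract s w = ε • w → (∀ z, ract s z = ε • z → Q3.B Q w z = 0) → w = 0 := by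
        intro w hw hz
        refine hQ.1 w fun z => ?_
        show Q3.B Q w z = 0
        have hp : ract s (z + ε • ract s z) = ε • (z + ε • ract s z) := by
          rw [map_add, map_smul, hss, smul_add, smul_smul, hε, one_smul, add_comm]
        have e1 := hz _ hp
        rw [Q3.B_add_right, Q3.B_smul_right] at e1
        have e2 : Q3.B Q w (ract s z) = ε * Q3.B Q w z := by
          rw [← ract_B s w, hss, hw, Q3.B_smul_left]
        rw [e2, ← mul_assoc, hε, one_mul] at e1
        have d : ∀ t : ZMod 3, t + t = 0 → t = 0 := by decide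
        exact d _ e1
      by_cases hall : ∀ w, ract s w = ε • w → Q w = 0
      · refine ⟨0, fun w hw => ?_⟩
        rw [hrad w hw fun z hz => by
          rw [Q3.B, QuadraticMap.polar, hall w hw, hall z hz, hall _ (by rw [map_add, hw, hz, smul_add])]; simp]
        exact Submodule.zero_mem _
      push Not at hall
      obtain ⟨a, ha, ha0⟩ := hall
      have hqa : Q a = -c := (hnoc a ha).resolve_left ha0
      refine ⟨a, fun w hw => ?_⟩
      let p : Q3.V n → Q3.V n := fun w => w - (c * Q3.B Q a w) • a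
      have hpE : ∀ w, ract s w = ε • w → ract s (p w) = ε • p w ∧ Q3.B Q a (p w) = 0 := fun w hw => by
        refine ⟨by simp only [p, map_sub, map_smul, hw, ha, smul_sub, smul_comm ε], ?_⟩
        simp only [p, Q3.B_sub_right, Q3.B_smul_right, Q3.B_self, hqa]
        have : ∀ c b : ZMod 3, c ≠ 0 → b - c * b * (2 * -c) = 0 := by decide
        exact this c _ hc
      have hq0 : ∀ w, ract s w = ε • w → Q (p w) = 0 := fun w hw => by
        obtain ⟨h1, h2⟩ := hpE w hw
        refine (hnoc _ h1).resolve_right fun h3 => ?_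
        rcases hnoc (a + p w) (by rw [map_add, ha, h1, smul_add]) with k | k <;>
          rw [Q3.q_add, hqa, h3, h2, add_zero] at k
        · have : ∀ c : ZMod 3, c ≠ 0 → -c + -c ≠ 0 := by decide
          exact this c hc k
        · exact hc (by simpa using k)
      obtain ⟨h1, h2⟩ := hpE w hw
      have h0 : p w = 0 := hrad _ h1 fun z hz => by
        have e : z = p z + (c * Q3.B Q a z) • a := (sub_add_cancel z _).symm
        rw [e, Q3.B_add_right, Q3.B_smul_right, Q3.B_comm Q (p w) a, h2, mul_zero, add_zero]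
        have e2 := hq0 (w + z) (by rw [map_add, hw, hz, smul_add])
        rw [show p (w + z) = p w + p z by simp only [p, Q3.B_add_right, mul_add, add_smul]; abel,
          Q3.q_add, hq0 w hw, hq0 z hz, zero_add, zero_add] at e2
        exact e2
      rw [Submodule.mem_span_singleton]
      exact ⟨_, (sub_eq_zero.mp h0).symm⟩
    obtain ⟨a, ha⟩ := line 1 (by norm_num)
    obtain ⟨b, hb⟩ := line (-1) (by decide)
    have hspan : (⊤ : Submodule (ZMod 3) (Q3.V n)) ≤ Submodule.span (ZMod 3) (Set.range ![a, b]) := by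
      intro v _
      have hv : v = (2 : ZMod 3) • (v + ract s v) + (2 : ZMod 3) • (v - ract s v) := by
        funext i
        simp only [Pi.add_apply, Pi.smul_apply, Pi.sub_apply, smul_eq_mul]
        linear_combination -(d1 (v i))
      rw [hv]
      refine add_mem (Submodule.smul_mem _ _ ?_) (Submodule.smul_mem _ _ ?_)
      · exact Submodule.span_mono (by simp) (ha _ (by rw [map_add, hss, one_smul, add_comm]))
      · exact Submodule.span_mono (by simp) (hb _ (by rw [map_sub, hss, neg_one_smul, neg_sub]))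
    have h2 := Submodule.finrank_mono hspan
    have h3 := finrank_range_le_card (R := ZMod 3) ![a, b]
    rw [Set.finrank, Fintype.card_fin] at h3
    rw [finrank_top, Module.finrank_fintype_fun_eq_card, Fintype.card_fin] at h2
    omega
  refine ⟨hneg, fun v => ?_⟩
  have e := ract_B s v (ract s v)
  rw [hneg, Q3.B_neg_right, Q3.B_comm Q (ract s v) v] at e
  have d : ∀ t : ZMod 3, -t = t → t = 0 := by decide
  exact d _ e

/-- Anticommuting switches. -/
theorem sw_anticomm {s t : ↥(reflectionSubgroup (⇑Q) c)} (hc : c ≠ 0)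
    (hs : Sw (rset Q c) (QuotientGroup.mk s : RGrp Q c)) (ht : Sw (rset Q c) (QuotientGroup.mk t : RGrp Q c))
    (hst : Commute (QuotientGroup.mk s : RGrp Q c) (QuotientGroup.mk t))
    (hp : Sw (rset Q c) ((QuotientGroup.mk s : RGrp Q c) * QuotientGroup.mk t)) (v : Q3.V n) :
    ract s (ract t v) = -ract t (ract s v) := by
  obtain ⟨hs1, -⟩ := sw_lift hn hQ hc hs
  obtain ⟨ht1, -⟩ := sw_lift hn hQ hc ht
  rw [← QuotientGroup.mk_mul] at hp
  obtain ⟨hp1, -⟩ := sw_lift hn hQ hc hp
  have he : (QuotientGroup.mk (t * s) : RGrp Q c) = QuotientGroup.mk (s * t) := by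
    rw [QuotientGroup.mk_mul, QuotientGroup.mk_mul, hst.eq]
  rcases lift_eq hn hQ he hc with k | k
  swap
  · have := k v; rwa [ract_mul, ract_mul] at this
  exfalso
  simp only [ract_mul] at k hp1
  obtain ⟨x, hx, -⟩ := exists_perp_ne_zero (Q := Q) (k := 0) (by omega) Fin.elim0
  have h1 := hp1 x
  rw [k (ract s (ract t x)), hs1, map_neg, ht1, neg_neg] at h1
  exact ne_neg_self hx h1

/-- A product of two commuting reflections determines them. -/
theorem refl_unique : UniqueFactor (rset Q c) ∨ c = 0 := by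
  by_cases hc : c = 0
  · exact Or.inr hc
  left
  rintro A hA B' hB C hC D hD hAB cAB hCD cCD he
  obtain ⟨a, ha, rfl⟩ := exists_rp hc hA
  obtain ⟨b, hb, rfl⟩ := exists_rp hc hB
  obtain ⟨p, hp, rfl⟩ := exists_rp hc hC
  obtain ⟨q, hq, rfl⟩ := exists_rp hc hD
  have orth : ∀ {x y : Q3.V n} (hx : Q x = c) (hy : Q y = c), rp hc hx ≠ rp hc hy →
      Commute (rp hc hx) (rp hc hy) → Q3.B Q x y = 0 := by
    intro x y hx hy hne hcm
    have e : ract (rr hc hx) y = y - (c * Q3.B Q x y) • x := ract_rr hc hx y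
    have hm : Q (ract (rr hc hx) y) = c := by rw [ract_q, hy]
    have k := congrArg (QuotientGroup.mk : _ → RGrp Q c) (rr_conj hc (rr hc hx) hy hm)
    rw [QuotientGroup.mk_mul, QuotientGroup.mk_mul, QuotientGroup.mk_inv] at k
    change rp hc hx * rp hc hy * (rp hc hx)⁻¹ = rp hc hm at k
    rw [hcm.eq, mul_inv_cancel_right] at k
    by_contra hb0
    have hs : c * Q3.B Q x y ≠ 0 := mul_ne_zero hc hb0
    rcases rp_inj hc hn hQ hy hm k with e1 | e1
    · rw [e] at e1
      have : (c * Q3.B Q x y) • x = 0 := sub_eq_self.mp e1.symm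
      rcases smul_eq_zero.mp this with z | z
      · exact hs z
      · exact Q3.ne_zero_of_q Q (hx ▸ hc) z
    · rw [e] at e1
      refine hne (congrArg QuotientGroup.mk (rr_pm hc hy hx ?_))
      have hyx : y = -((c * Q3.B Q x y) • x) := by
        funext i
        have := congrFun e1 i
        simp only [Pi.neg_apply, Pi.sub_apply, Pi.smul_apply, smul_eq_mul] at this ⊢
        have d : ∀ y t : ZMod 3, y = -(y - t) → y = -t := by decide
        exact d _ _ this
      have d : ∀ t : ZMod 3, t ≠ 0 → t = 1 ∨ t = -1 := by decide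
      rcases d _ hs with e2 | e2 <;> rw [e2] at hyx
      · right; rw [hyx, one_smul, neg_neg]
      · left; rw [hyx, neg_one_smul, neg_neg]
  have bab := orth ha hb hAB cAB
  have bpq := orth hp hq hCD cCD
  have hsol : ∃ (x : Q3.V n), (x = p ∨ x = -p ∨ x = q ∨ x = -q) ∧ x = a := by
    refine ⟨a, ?_, rfl⟩
    have hprod : ∀ {x y : Q3.V n} (hx : Q x = c) (hy : Q y = c), Q3.B Q x y = 0 → ∀ u,
        ract (rr hc hx * rr hc hy) u = u - ((c * Q3.B Q x u) • x + (c * Q3.B Q y u) • y) := by
      intro x y hx hy hxy u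
      rw [ract_mul, ract_rr, ract_rr, Q3.B_sub_right, Q3.B_smul_right, hxy, mul_zero, sub_zero]
      abel
    rcases lift_eq hn hQ (s := rr hc ha * rr hc hb) (t := rr hc hp * rr hc hq) he hc with k | k
    swap
    · exfalso
      obtain ⟨x, hx, hpx⟩ := exists_perp_ne_zero (Q := Q) (k := 4) (by omega) ![a, b, p, q]
      have h1 := k x
      rw [hprod ha hb bab, hprod hp hq bpq, show Q3.B Q a x = 0 from hpx 0, show Q3.B Q b x = 0 from hpx 1,
        show Q3.B Q p x = 0 from hpx 2, show Q3.B Q q x = 0 from hpx 3] at h1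
      simp only [mul_zero, zero_smul, add_zero, sub_zero] at h1
      exact ne_neg_self hx h1
    have h1 := k a
    rw [hprod ha hb bab, hprod hp hq bpq, Q3.B_comm Q b a, bab, Q3.B_self, ha] at h1
    have hcc := sq_one hc
    set α := c * Q3.B Q p a
    set β := c * Q3.B Q q a
    have hcomb : a = (-α) • p + (-β) • q := by
      funext i
      have := congrFun h1 i
      simp only [Pi.sub_apply, Pi.add_apply, Pi.smul_apply, smul_eq_mul, mul_zero, zero_mul, add_zero] at this
      simp only [Pi.add_apply, Pi.smul_apply, smul_eq_mul]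
      have d : ∀ c a t : ZMod 3, c * c = 1 → a - t = a - c * (2 * c) * a → a = -t := by decide
      have := d c (a i) (α * p i + β * q i) hcc this
      linear_combination this
    have hq1 := ha
    rw [hcomb, Q3.q_add, Q3.q_smul, Q3.q_smul, Q3.B_smul_left, Q3.B_smul_right, bpq, hp, hq] at hq1
    have d : ∀ c s t : ZMod 3, c ≠ 0 → s * s * c + t * t * c + s * (t * 0) = c →
        (s = 1 ∧ t = 0) ∨ (s = -1 ∧ t = 0) ∨ (s = 0 ∧ t = 1) ∨ (s = 0 ∧ t = -1) := by decide
    rcases d c _ _ hc hq1 with ⟨e1, e2⟩ | ⟨e1, e2⟩ | ⟨e1, e2⟩ | ⟨e1, e2⟩ <;> rw [hcomb, e1, e2] <;>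
      simp
  obtain ⟨x, hx, rfl⟩ := hsol
  rcases hx with e | e | e | e
  · exact Or.inl (congrArg QuotientGroup.mk (rr_pm hc ha hp (Or.inl e.symm)))
  · exact Or.inl (congrArg QuotientGroup.mk (rr_pm hc ha hp (Or.inr (by rw [e, neg_neg]))))
  all_goals
    refine Or.inr ?_
    have hqa : rp hc hq = rp hc ha := congrArg QuotientGroup.mk (rr_pm hc ha hq (by
      first | exact Or.inl e.symm | exact Or.inr (by rw [e, neg_neg])))
    rw [hqa, cAB.eq] at he
    exact (mul_right_cancel he).symm

end Cfsg.Agent.Spor.Triality
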